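import Cfsg.Agent.Lib.Sporadic.FiTransfer23.DiagDefs

/-!
The conditions on ten of the configurations.
-/

set_option autoImplicit false
set_option maxRecDepth 100000

namespace CfsgLib.Sporadic.FiTransfer23.Diag

open Supports

theorem configsC_ok : ∀ w ∈ configs.drop 20, ConfigOk w := by decide +kernel

end CfsgLib.Sporadic.FiTransfer23.Diag
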