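import Cfsg.Agent.Lib.Sporadic.FiTransfer23.Ortho

/-!
# Coordinates for the common neighbours of a non-commuting pair in type M(23)

A set of involutions whose group modulo its centre is the projective reflection group in dimension
seven corresponds to the points of one norm, commuting being orthogonality.
-/

set_option autoImplicit false
set_option linter.unusedSectionVars false

namespace CfsgLib.Sporadic.FiTransfer23.Frame

open QuadraticMap Module CfsgLib.Orth CfsgLib.ThreeTransp.ReflThree Ortho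

local notation "V7" => Fin 7 → ZMod 3

/-- Coordinates on a set of members. -/
structure Coord {G : Type*} [Group G] (S : Set G) (Q : QuadraticForm (ZMod 3) V7) (c : ZMod 3)
    (vec : G → V7) : Prop where
  norm : ∀ s ∈ S, Q (vec s) = c
  line : ∀ s ∈ S, ∀ t ∈ S, (vec s = vec t ∨ vec s = -vec t) → s = t
  orth : ∀ s ∈ S, ∀ t ∈ S, Commute s t ↔ polar Q (vec s) (vec t) = 0 ∨ s = t
  surj : ∀ v, Q v = c → ∃ s ∈ S, vec s = v ∨ vec s = -v
  conj : ∀ s ∈ S, ∀ t ∈ S, vec (s * t * s) = (refl Q (vec s)).1 (vec t) ∨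
    vec (s * t * s) = -(refl Q (vec s)).1 (vec t)
  word : ∀ l : List G, (∀ a ∈ l, a ∈ S) → IsPM (l.map fun a => refl Q (vec a)).prod →
    ∀ u ∈ S, Commute l.prod u

/-- The hypotheses on a set of members. -/
structure Hyp {G : Type*} [Group G] (S : Set G) : Prop where
  inv : ∀ s ∈ S, s * s = 1
  conj : ∀ s ∈ S, ∀ t ∈ S, s * t * s ∈ S
  tt : ∀ s ∈ S, ∀ t ∈ S, (s * t) ^ 2 = 1 ∨ (s * t) ^ 3 = 1
  apart : ∀ s ∈ S, ∃ t ∈ S, ¬ Commute s t
  sep : ∀ s ∈ S, ∀ t ∈ S, s ≠ t → Commute s t → ∃ u ∈ S, Commute s u ∧ ¬ Commute t u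
  seven : ∃ f : Fin 7 → G, Function.Injective f ∧ (∀ i, f i ∈ S) ∧ ∀ i j, Commute (f i) (f j)

theorem Hyp.conj_closure {G : Type*} [Group G] {S : Set G} (h : Hyp S) {k : G}
    (hk : k ∈ Subgroup.closure S) : ∀ t ∈ S, k * t * k⁻¹ ∈ S ∧ k⁻¹ * t * k ∈ S := by
  induction hk using Subgroup.closure_induction with
  | mem s hs =>
    intro t ht
    rw [inv_eq_of_mul_eq_one_right (h.inv s hs)]
    exact ⟨h.conj s hs t ht, h.conj s hs t ht⟩
  | one => intro t ht; simp [ht]
  | mul a b _ _ ha hb =>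
    intro t ht
    constructor
    · rw [show a * b * t * (a * b)⁻¹ = a * (b * t * b⁻¹) * a⁻¹ by group]
      exact (ha _ (hb t ht).1).1
    · rw [show (a * b)⁻¹ * t * (a * b) = b⁻¹ * (a⁻¹ * t * a) * b by group]
      exact (hb _ (ha t ht).2).2
  | inv a _ ha => intro t ht; rw [inv_inv]; exact (ha t ht).symm

variable {Q : QuadraticForm (ZMod 3) V7} {c : ZMod 3}

theorem norm_eq : ∀ p q c : ZMod 3, c ≠ 0 → q ≠ 0 → (2 * q) ^ 7 = p * p * -c → q = c := by
  decide

theorem refl_not_mem (hQ : (polarBilin Q).Nondegenerate) (hc : c ≠ 0) {b : V7} (hb : Q b = -c) :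
    refl Q b ∉ R0 Q c := by
  intro h
  have hall : reflGroup Q ≤ R0 Q c := by
    rw [reflGroup, Subgroup.closure_le]
    rintro _ ⟨a, rfl⟩
    by_cases ha : Q a = 0
    · rw [show refl Q a = 1 from Subtype.ext (LinearEquiv.ext fun x => by
        show (refl Q a).1 x = x
        simp [refl_apply, ha])]
      exact one_mem _
    rcases (by decide : ∀ q c : ZMod 3, q ≠ 0 → c ≠ 0 → q = c ∨ q = -c) (Q a) c ha hc with e | e
    · exact refl_mem e
    · exact (Subgroup.mul_mem_cancel_right _ h).1 (pair_any hQ (by norm_num) hc e hb)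
  rw [reflGroup_eq_top hQ (good_of_two_ne (by decide)), top_le_iff] at hall
  have := index_eq_two (Q := Q) hQ (n := 7) (by norm_num) hc
  rw [hall, Subgroup.index_top] at this
  omega

theorem exists_R_conj (hQ : (polarBilin Q).Nondegenerate) (hc : c ≠ 0) {t : orthGroup Q}
    (ht : t * t = 1) (g : orthGroup Q) : ∃ g' ∈ R0 Q c, g' * t * g'⁻¹ = g * t * g⁻¹ := by
  by_cases hg : g ∈ R0 Q c
  · exact ⟨g, hg, rfl⟩
  obtain ⟨b, hbt, hb⟩ : ∃ b, (t.1 b = b ∨ t.1 b = -b) ∧ Q b = -c := by
    have hd := finrank_add ht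
    by_cases h2 : 2 ≤ finrank (ZMod 3) (plus t)
    · obtain ⟨b, hb, hq⟩ := exists_norm (fun x hx h => plus_nondeg hQ ht hx h) h2 (-c)
      exact ⟨b, Or.inl hb, hq⟩
    · obtain ⟨b, hb, hq⟩ := exists_norm (fun x hx h => minus_nondeg hQ ht hx h) (by omega) (-c)
      exact ⟨b, Or.inr hb, hq⟩
  have hcomm : refl Q b * t * (refl Q b)⁻¹ = t := by
    have h1 : t * refl Q b * t⁻¹ = refl Q b := by
      rw [conj_refl]
      rcases hbt with e | e <;> rw [e]
      exact refl_neg b
    calc refl Q b * t * (refl Q b)⁻¹ = t * refl Q b * t⁻¹ * t * (refl Q b)⁻¹ := by rw [h1]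
      _ = t := by group
  refine ⟨g * refl Q b, ?_, ?_⟩
  · rw [Subgroup.mul_mem_iff_of_index_two (index_eq_two hQ (by norm_num) hc)]
    exact iff_of_false hg (refl_not_mem hQ hc hb)
  · calc g * refl Q b * t * (g * refl Q b)⁻¹ = g * (refl Q b * t * (refl Q b)⁻¹) * g⁻¹ := by group
      _ = g * t * g⁻¹ := by rw [hcomm]

theorem polar_expand (v w : V7) : polar Q v w =
    ∑ k, ∑ l, v k * w l * polar Q (Pi.single k 1) (Pi.single l 1) := by
  conv_lhs => rw [← polarBilin_apply_apply, pi_eq_sum_univ' v, pi_eq_sum_univ' w]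
  simp only [map_sum, map_smul, LinearMap.sum_apply, LinearMap.smul_apply, smul_eq_mul,
    polarBilin_apply_apply, Finset.mul_sum]
  rw [Finset.sum_comm]
  refine Finset.sum_congr rfl fun k _ => Finset.sum_congr rfl fun l _ => ?_
  ring

theorem gram_det (v : Fin 7 → V7) :
    (Matrix.of fun i j => polar Q (v i) (v j)).det =
      (Matrix.of v).det * (Matrix.of v).det * Cfsg.polarGramDet (⇑Q) := by
  rw [Cfsg.polarGramDet]
  set M : Matrix (Fin 7) (Fin 7) (ZMod 3) :=
    Matrix.of fun i j => polar Q (Pi.single i 1) (Pi.single j 1)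
  have e : (Matrix.of fun i j => polar Q (v i) (v j)) =
      Matrix.of v * M * (Matrix.of v).transpose := by
    ext i j
    rw [Matrix.of_apply, polar_expand]
    simp only [Matrix.mul_apply, Matrix.transpose_apply, Matrix.of_apply, M, Finset.sum_mul]
    rw [Finset.sum_comm]
    refine Finset.sum_congr rfl fun k _ => Finset.sum_congr rfl fun l _ => ?_
    ring
  rw [e, Matrix.det_mul, Matrix.det_mul, Matrix.det_transpose]
  ring

variable {G : Type*} [Group G] {S : Set G}

/-- The identification, before coordinates. -/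
structure Ident (S : Set G) (Q : QuadraticForm (ZMod 3) V7) (c : ZMod 3)
    (Im : G → orthGroup Q → Prop) : Prop where
  mul : ∀ {g g' r r'}, Im g r → Im g' r' → Im (g * g') (r * r')
  one : Im 1 1
  inv : ∀ {g r}, Im g r → Im g⁻¹ r⁻¹
  total : ∀ g ∈ Subgroup.closure S, ∃ r, Im g r
  pre : ∀ r ∈ R0 Q c, ∃ g, Im g r
  mem : ∀ {g r}, Im g r → g ∈ Subgroup.closure S ∧ r ∈ R0 Q c
  unique : ∀ {g r r'}, Im g r → Im g r' → IsPM (r⁻¹ * r')
  central : ∀ {g r}, Im g r → ((∀ u ∈ S, Commute g u) ↔ IsPM r)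

theorem Ident.pow {Im : G → orthGroup Q → Prop} (hI : Ident S Q c Im) {g : G} {r : orthGroup Q}
    (h : Im g r) : ∀ n : ℕ, Im (g ^ n) (r ^ n)
  | 0 => by simpa using hI.one
  | n + 1 => by rw [pow_succ, pow_succ]; exact hI.mul (hI.pow h n) h

theorem Ident.pm_of_one {Im : G → orthGroup Q → Prop} (hI : Ident S Q c Im) {g : G}
    {r : orthGroup Q} (h : Im g r) (hg : g = 1) : IsPM r :=
  (hI.central h).1 fun u _ => by rw [hg]; exact Commute.one_left u

/-- The vector `v` represents `s`. -/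
def Rep (Im : G → orthGroup Q → Prop) (s : G) (v : V7) : Prop :=
  Q v ≠ 0 ∧ ∃ r, Im s r ∧ (r = refl Q v ∨ r = negE Q * refl Q v)

variable {Im : G → orthGroup Q → Prop}

theorem negE_conj (g a : orthGroup Q) : g * (negE Q * a) * g⁻¹ = negE Q * (g * a * g⁻¹) := by
  rw [← mul_assoc, negE_comm]; simp only [mul_assoc]

theorem Rep.conj (hI : Ident S Q c Im) {s : G} {v : V7} (h : Rep Im s v) {k : G} {g : orthGroup Q}
    (hk : Im k g) : Rep Im (k * s * k⁻¹) (g.1 v) := by
  obtain ⟨hv, r, hr, e⟩ := h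
  refine ⟨by rwa [apply_quad], _, hI.mul (hI.mul hk hr) (hI.inv hk), ?_⟩
  rcases e with rfl | rfl
  · exact Or.inl (conj_refl Q g v)
  · exact Or.inr (by rw [negE_conj, conj_refl])

theorem Rep.unique (hI : Ident S Q c Im) {s : G} {v w : V7} (h : Rep Im s v) (h' : Rep Im s w) :
    v = w ∨ v = -w := by
  obtain ⟨hv, r, hr, e⟩ := h
  obtain ⟨hw, r', hr', e'⟩ := h'
  have hz : r' = r ∨ r' = negE Q * r := by
    rcases hI.unique hr hr' with h | h
    · exact Or.inl (inv_mul_eq_one.1 h).symm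
    · exact Or.inr (by rw [← negE_comm, ← h, mul_inv_cancel_left])
  refine line_of_refl_eq hv hw ?_
  have hn : ∀ a : orthGroup Q, negE Q * (negE Q * a) = a := fun a => by
    rw [← mul_assoc, negE_sq, one_mul]
  rcases e with rfl | rfl <;> rcases e' with rfl | rfl <;> rcases hz with h | h
  · exact h.symm
  · exact absurd h (refl_ne_neg _ _)
  · exact absurd h.symm (refl_ne_neg _ _)
  · exact (mul_left_cancel h).symm
  · exact absurd h (refl_ne_neg _ _)
  · rw [hn] at h; exact h.symm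
  · exact (mul_left_cancel h).symm
  · rw [hn] at h; exact absurd h.symm (refl_ne_neg _ _)

theorem Rep.prod (hI : Ident S Q c Im) (vec : G → V7) :
    ∀ l : List G, (∀ a ∈ l, Rep Im a (vec a)) →
      ∃ z, IsPM z ∧ Im l.prod ((l.map fun a => refl Q (vec a)).prod * z)
  | [], _ => ⟨1, Or.inl rfl, by simpa using hI.one⟩
  | a :: l, h => by
    obtain ⟨z, hz, h1⟩ := Rep.prod hI vec l fun b hb => h b (List.mem_cons_of_mem _ hb)
    obtain ⟨-, r, hr, e⟩ := h a List.mem_cons_self
    have h2 := hI.mul hr h1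
    rw [List.map_cons, List.prod_cons, List.prod_cons]
    rcases e with rfl | rfl
    · exact ⟨z, hz, by rwa [mul_assoc]⟩
    · refine ⟨negE Q * z, (show IsPM (negE Q) from Or.inr rfl).mul hz, ?_⟩
      have e1 : refl Q (vec a) * (l.map fun a => refl Q (vec a)).prod * (negE Q * z) =
          negE Q * refl Q (vec a) * ((l.map fun a => refl Q (vec a)).prod * z) := by
        rw [← mul_assoc, negE_comm]; simp only [mul_assoc]
      rwa [e1]

theorem Rep.pair (hI : Ident S Q c Im) {s t : G} {v w : V7} (h : Rep Im s v) (h' : Rep Im t w) :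
    ∃ z, IsPM z ∧ Im (s * t) (refl Q v * refl Q w * z) := by
  obtain ⟨-, r, hr, e⟩ := h
  obtain ⟨-, r', hr', e'⟩ := h'
  have h2 := hI.mul hr hr'
  have hn : ∀ a b : orthGroup Q, a * (negE Q * b) = negE Q * (a * b) := fun a b => by
    rw [← mul_assoc, negE_comm, mul_assoc]
  have hpm : IsPM (negE Q) := Or.inr rfl
  rcases e with rfl | rfl <;> rcases e' with rfl | rfl
  · exact ⟨1, Or.inl rfl, by rwa [mul_one]⟩
  · exact ⟨negE Q, hpm, by rwa [negE_comm, ← hn]⟩
  · exact ⟨negE Q, hpm, by rwa [negE_comm, ← mul_assoc]⟩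
  · refine ⟨1, Or.inl rfl, ?_⟩
    rw [hn, mul_assoc, ← mul_assoc (negE Q), negE_sq, one_mul] at h2
    rwa [mul_one]

variable (hI : Ident S Q c Im) (hS : Hyp S) (hQ : (polarBilin Q).Nondegenerate) (hc : c ≠ 0)
include hI hS

theorem exists_rep {s : G} (hs : s ∈ S) (hQ : (polarBilin Q).Nondegenerate) (hc : c ≠ 0) :
    ∃ v, Rep Im s v := by
  obtain ⟨r, hr⟩ := hI.total s (Subgroup.subset_closure hs)
  have hne : ¬ IsPM r := fun h => by
    obtain ⟨t, ht, hn⟩ := hS.apart s hs
    exact hn ((hI.central hr).2 h t ht)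
  have h2 : IsPM (r * r) := hI.pm_of_one (hI.mul hr hr) (hS.inv s hs)
  have hrr : r * r = 1 := mul_self_of_pm h2
  have h3 : ∀ g : orthGroup Q, IsPM ((r * (g * r * g⁻¹)) ^ 2) ∨ IsPM ((r * (g * r * g⁻¹)) ^ 3) := by
    intro g
    obtain ⟨g', hg', e⟩ := exists_R_conj hQ hc hrr g
    obtain ⟨k, hk⟩ := hI.pre g' hg'
    have him := hI.mul hr (hI.mul (hI.mul hk hr) (hI.inv hk))
    rw [e] at him
    exact (hS.tt s hs _ (hS.conj_closure (hI.mem hk).1 s hs).1).imp
      (fun h => hI.pm_of_one (hI.pow him 2) h) fun h => hI.pm_of_one (hI.pow him 3) h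
  obtain ⟨v, hv, e⟩ := classify hQ hne h2 h3
  exact ⟨v, hv, r, hr, e⟩

theorem commute_of_central {s t : G} (hs : s ∈ S) (ht : t ∈ S)
    (h : ∀ u ∈ S, Commute ((s * t) ^ 2) u) : Commute s t := by
  rcases hS.tt s hs t ht with h2 | h3
  · exact (CfsgLib.ThreeTransp.Basic.commute_iff (hS.inv s hs) (hS.inv t ht)).2 h2
  have e : (s * t) ^ 2 = (s * t)⁻¹ := eq_inv_of_mul_eq_one_left (by rwa [← pow_succ])
  have h4 : Commute (s * t) s := by
    simpa [e] using (h s hs).inv_left
  have h5 := h4.eq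
  rw [mul_assoc] at h5
  exact (mul_left_cancel h5).symm

theorem commute_iff_aux {s t : G} (hs : s ∈ S) (ht : t ∈ S) {v w : V7} (hv : Rep Im s v)
    (hw : Rep Im t w) :
    Commute s t ↔ polar Q v w = 0 ∨ v = w ∨ v = -w := by
  obtain ⟨z, hz, him⟩ := Rep.pair hI hv hw
  have him2 := hI.pow him 2
  have e2 : (refl Q v * refl Q w * z) ^ 2 = (refl Q v * refl Q w) ^ 2 * z ^ 2 :=
    (Commute.mul_pow (hz.comm _) 2)
  have hz2 : z ^ 2 = 1 := by
    rcases hz with rfl | rfl
    · exact one_pow 2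
    · rw [pow_two, negE_sq]
  rw [e2, hz2, mul_one] at him2
  constructor
  · intro hc'
    by_cases hp : polar Q v w = 0
    · exact Or.inl hp
    right
    have hst : (s * t) ^ 2 = 1 :=
      (CfsgLib.ThreeTransp.Basic.commute_iff (hS.inv s hs) (hS.inv t ht)).1 hc'
    have hk := hI.pm_of_one him2 hst
    have e : (refl Q v * refl Q w) ^ 2 = refl Q ((refl Q v).1 w) * refl Q w := by
      rw [pow_two, ← conj_refl']; simp only [mul_assoc]
    rw [e] at hk
    rcases hk with hk | hk
    · have hl : refl Q ((refl Q v).1 w) = refl Q w :=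
        (mul_eq_one_iff_eq_inv.1 hk).trans (refl_inv Q w)
      have hqw := hw.1
      have hk0 : (Q v)⁻¹ * polar Q v w ≠ 0 := mul_ne_zero (inv_ne_zero hv.1) hp
      rcases line_of_refl_eq (by rwa [apply_quad]) hqw hl with e | e
      · rw [refl_apply, sub_eq_self, smul_eq_zero] at e
        exact absurd (e.resolve_left hk0) fun e0 => hv.1 (by rw [e0, QuadraticMap.map_zero])
      · rw [refl_apply] at e
        generalize (Q v)⁻¹ * polar Q v w = k at e hk0
        have e' : k • v = (2 : ZMod 3) • w := by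
          rw [sub_eq_iff_eq_add] at e
          calc k • v = -w + k • v - -w := by abel
            _ = (2 : ZMod 3) • w := by rw [← e, two_smul, sub_neg_eq_add]
        rw [show (2 : ZMod 3) = -1 by decide, neg_one_smul] at e'
        rcases zmod3_cases k with rfl | rfl | rfl
        · exact absurd rfl hk0
        · exact Or.inr (by rwa [one_smul] at e')
        · exact Or.inl (neg_inj.1 (by rwa [neg_one_smul] at e'))
    · exact absurd ((eq_mul_inv_of_mul_eq hk).trans (by rw [refl_inv])) (refl_ne_neg _ _)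
  · intro h
    refine commute_of_central hI hS hs ht ((hI.central him2).2 (Or.inl ?_))
    have hcomm : refl Q v * refl Q w = refl Q w * refl Q v := by
      rcases h with h | rfl | rfl
      · exact commute_of_orth h
      · rfl
      · rw [refl_neg]
    rw [pow_two]
    nth_rw 2 [hcomm]
    rw [mul_assoc, ← mul_assoc (refl Q w), refl_mul_self, one_mul, refl_mul_self]

include hQ hc

/-- The identification gives coordinates. -/
theorem Ident.coord (hdet : Cfsg.polarGramDet (⇑Q) = -c) : ∃ vec : G → V7, Coord S Q c vec := by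
  classical
  choose! vec hvec using fun s (hs : s ∈ S) => exists_rep hI hS hs hQ hc
  have hiff : ∀ s ∈ S, ∀ t ∈ S, Commute s t ↔
      polar Q (vec s) (vec t) = 0 ∨ vec s = vec t ∨ vec s = -vec t :=
    fun s hs t ht => commute_iff_aux hI hS hs ht (hvec s hs) (hvec t ht)
  have hline : ∀ s ∈ S, ∀ t ∈ S, (vec s = vec t ∨ vec s = -vec t) → s = t := by
    intro s hs t ht hl
    by_contra hne
    obtain ⟨u, hu, h1, h2⟩ := hS.sep s hs t ht hne ((hiff s hs t ht).2 (Or.inr hl))
    refine h2 ((hiff t ht u hu).2 ?_)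
    rcases hl with e | e
    · rw [← e]; exact (hiff s hs u hu).1 h1
    · rcases (hiff s hs u hu).1 h1 with h | h | h
      · rw [e, polar_neg_left, neg_eq_zero] at h; exact Or.inl h
      · rw [e] at h; exact Or.inr (Or.inr (neg_eq_iff_eq_neg.1 h))
      · rw [e, neg_inj] at h; exact Or.inr (Or.inl h)
  have horth : ∀ s ∈ S, ∀ t ∈ S, Commute s t ↔ polar Q (vec s) (vec t) = 0 ∨ s = t := by
    intro s hs t ht
    rw [hiff s hs t ht]
    refine or_congr_right ⟨hline s hs t ht, ?_⟩
    rintro rfl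
    exact Or.inl rfl
  have hconj : ∀ s ∈ S, ∀ t ∈ S, vec (s * t * s) = (refl Q (vec s)).1 (vec t) ∨
      vec (s * t * s) = -(refl Q (vec s)).1 (vec t) := by
    intro s hs t ht
    obtain ⟨-, r, hr, e⟩ := hvec s hs
    have h1 := Rep.conj hI (hvec t ht) hr
    rw [inv_eq_of_mul_eq_one_right (hS.inv s hs)] at h1
    have h2 := Rep.unique hI (hvec _ (hS.conj s hs t ht)) h1
    rcases e with rfl | rfl
    · exact h2
    · rw [mul_apply', negE_apply, neg_neg] at h2
      exact h2.symm
  have same : ∀ s ∈ S, ∀ t ∈ S, ¬ Commute s t → Q (vec s) = Q (vec t) := by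
    intro s hs t ht hn
    have h3 := (hS.tt s hs t ht).resolve_left fun h =>
      hn ((CfsgLib.ThreeTransp.Basic.commute_iff (hS.inv s hs) (hS.inv t ht)).2 h)
    have hb := (CfsgLib.ThreeTransp.Basic.braid_iff (hS.inv s hs) (hS.inv t ht)).2 h3
    have key : ∀ a ∈ S, ∀ b ∈ S, Q (vec (a * b * a)) = Q (vec b) := by
      intro a ha b hb
      rcases hconj a ha b hb with e | e <;> rw [e]
      · exact apply_quad _ _
      · rw [QuadraticMap.map_neg, apply_quad]
    rw [← key t ht s hs, ← hb, key s hs t ht]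
  have hall : ∀ s ∈ S, ∀ v, Q v = Q (vec s) → ∃ t ∈ S, vec t = v ∨ vec t = -v := by
    intro s hs v hv
    have h0 := (hvec s hs).1
    obtain ⟨g, -, hg⟩ := conjugate hQ (by norm_num) h0 (u := vec s) (v := v) rfl hv
    obtain ⟨g', hg', e⟩ := exists_R_conj hQ hc (refl_mul_self Q (vec s)) g
    rw [hg, conj_refl] at e
    obtain ⟨k, hk⟩ := hI.pre g' hg'
    have hmem := (hS.conj_closure (hI.mem hk).1 s hs).1
    refine ⟨_, hmem, ?_⟩
    have h1 := line_of_refl_eq (by rwa [apply_quad]) (by rw [hv]; exact h0) e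
    have h2 := Rep.unique hI (hvec _ hmem) (Rep.conj hI (hvec s hs) hk)
    rcases h1 with h1 | h1 <;> rcases h2 with h2 | h2 <;> rw [h2, h1] <;> simp
  have hnorm : ∀ s ∈ S, ∀ t ∈ S, Q (vec s) = Q (vec t) := by
    intro s hs t ht
    set w := vec t
    have h0 : Q w ≠ 0 := (hvec t ht).1
    obtain ⟨u, h1, -, h3⟩ := exists_perp_value hQ (by norm_num) (a := w) h0 w (Q (vec s) - Q w)
    obtain ⟨s', hs', hl⟩ := hall s hs (w + u) (by rw [quad_add', h3, h1]; ring)
    have hp : polar Q w (w + u) ≠ 0 := by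
      rw [polar_add_right, h1, add_zero, polar_self']
      exact mul_ne_zero (by decide) h0
    have hQs' : Q (vec s') = Q (vec s) := by
      rcases hl with e | e <;> rw [e]
      · rw [quad_add', h3, h1]; ring
      · rw [QuadraticMap.map_neg, quad_add', h3, h1]; ring
    by_cases he : t = s'
    · show Q (vec s) = Q (vec t)
      rw [he, hQs']
    rw [← hQs']
    refine (same t ht s' hs' fun hcm => ?_).symm
    refine ((horth t ht s' hs').1 hcm).elim (fun h => hp ?_) he
    rcases hl with e | e <;> rw [e] at h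
    · exact h
    · rwa [polar_neg_right, neg_eq_zero] at h
  have hnc : ∀ s ∈ S, Q (vec s) = c := by
    intro s hs
    obtain ⟨f, hf, hfS, hfc⟩ := hS.seven
    have hgram : (Matrix.of fun i j => polar Q (vec (f i)) (vec (f j))) =
        Matrix.diagonal fun _ => 2 * Q (vec s) := by
      ext i j
      rw [Matrix.of_apply, Matrix.diagonal_apply]
      split_ifs with e
      · rw [e, polar_self', hnorm _ (hfS j) s hs]
      · exact ((horth _ (hfS i) _ (hfS j)).1 (hfc i j)).resolve_right fun h => e (hf h)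
    have h := gram_det (Q := Q) fun i => vec (f i)
    rw [hgram, Matrix.det_diagonal, Finset.prod_const, Finset.card_fin, hdet] at h
    exact norm_eq _ _ c hc (hvec s hs).1 h
  refine ⟨vec, ⟨hnc, hline, horth, ?_, hconj, ?_⟩⟩
  · intro v hv
    obtain ⟨f, -, hfS, -⟩ := hS.seven
    exact hall (f 0) (hfS 0) v (hv.trans (hnc _ (hfS 0)).symm)
  · intro l hl hpm
    obtain ⟨z, hz, him⟩ := Rep.prod hI vec l fun a ha => hvec a (hl a ha)
    exact (hI.central him).2 (hpm.mul hz)

end CfsgLib.Sporadic.FiTransfer23.Frame
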