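import Cfsg.Agent.Lib.Sporadic.FiTransfer23.DiagCheckA
import Cfsg.Agent.Lib.Sporadic.FiTransfer23.DiagCheckB
import Cfsg.Agent.Lib.Sporadic.FiTransfer23.DiagCheckC
import Cfsg.Agent.Lib.Sporadic.FiTransfer23.Frame

/-!
# A diagram inside the common neighbours

From coordinates and a closed set with thirty neighbours at each of its members: eight members with
the diagram of the nodes a, b, c, d, e, h, i, f, the first seven inside the set and the last outside,
on which both further relators of Fi23 are central.
-/

set_option autoImplicit false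
set_option maxRecDepth 100000
set_option linter.unusedSectionVars false

namespace CfsgLib.Sporadic.FiTransfer23.Diag

open QuadraticMap CfsgLib.Orth Ortho Supports
open CfsgLib.Sporadic.FiTransfer23.Frame

local notation "V7" => Fin 7 → ZMod 3

theorem configs_ok : ∀ w ∈ configs, w.length = 8 ∧
    (∀ j : Fin 8, dot (nodeVec w j) (nodeVec w j) = 1) ∧
    (∀ j k : Fin 8, j ≠ k → (dot (nodeVec w j) (nodeVec w k) ≠ 0 ↔ adj8 j k = true) ∧
      (nodeVec w j ≠ nodeVec w k ∧ ∃ i, nodeVec w j i ≠ -nodeVec w k i)) ∧
    actsPM (spider.map (nodeVec w)) = true ∧ actsPM (sevenWord.map (nodeVec w)) = true := by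
  intro w hw
  rw [show configs = configs.take 10 ++ (configs.drop 10).take 10 ++ configs.drop 20 from rfl,
    List.mem_append, List.mem_append] at hw
  rcases hw with (h | h) | h
  exacts [configsA_ok w h, configsB_ok w h, configsC_ok w h]

variable {G : Type*} [Group G] [Finite G] {S : Set G} {Q : QuadraticForm (ZMod 3) V7} {c : ZMod 3}
  {vec : G → V7}

/-- The main statement. -/
theorem exists_diag (hC : Coord S Q c vec) (hc : c ≠ 0) {N : Set G} (hNS : N ⊆ S)
    (hne : N.Nonempty) (hclosed : ∀ s ∈ N, ∀ t ∈ N, s * t * s ∈ N)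
    (h30 : ∀ e ∈ N, {t | t ∈ N ∧ t ≠ e ∧ Commute e t}.ncard = 30)
    (hsix : ∀ e ∈ N, ∃ f : Fin 6 → G, Function.Injective f ∧
      (∀ i, f i ∈ N ∧ f i ≠ e ∧ Commute e (f i)) ∧ ∀ i j, Commute (f i) (f j)) :
    ∃ s : Fin 8 → G, (∀ k, s k ∈ S) ∧ (∀ k : Fin 8, k.1 < 7 → s k ∈ N) ∧ s 7 ∉ N ∧
      (∀ j k, j ≠ k → (Commute (s j) (s k) ↔ adj8 j k = false)) ∧
      (∀ u ∈ S, Commute (spider.map s).prod u) ∧ ∀ u ∈ S, Commute (sevenWord.map s).prod u := by
  classical
  obtain ⟨e, he⟩ := hne
  obtain ⟨f, hf, hfm, hfc⟩ := hsix e he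
  let p : Fin 7 → G := fun i => if h : i.1 < 6 then f ⟨i.1, h⟩ else e
  have hpN : ∀ i, p i ∈ N := fun i => by
    simp only [p]
    split_ifs with h
    exacts [(hfm _).1, he]
  have hpinj : Function.Injective p := by
    intro i j hij
    simp only [p] at hij
    split_ifs at hij with h1 h2 h3
    · exact Fin.ext (Fin.mk.inj (hf hij) :)
    · exact absurd hij (hfm _).2.1
    · exact absurd hij.symm (hfm _).2.1
    · exact Fin.ext (by omega)
  have hpc : ∀ i j, Commute (p i) (p j) := fun i j => by
    simp only [p]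
    split_ifs with h1 h2 h3
    exacts [hfc _ _, (hfm _).2.2.symm, (hfm _).2.2, Commute.refl e]
  set v : Fin 7 → V7 := fun i => vec (p i) with hv
  have hvq : ∀ i, Q (v i) = c := fun i => hC.norm _ (hNS (hpN i))
  have h2c : (2 : ZMod 3) * c ≠ 0 := mul_ne_zero (by decide) hc
  have hvorth : ∀ i j, polar Q (v i) (v j) = if i = j then 2 * c else 0 := fun i j => by
    split_ifs with h
    · rw [h, polar_self', hvq]
    · exact ((hC.orth _ (hNS (hpN i)) _ (hNS (hpN j))).1 (hpc i j)).resolve_right fun e =>
        h (hpinj e)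
  let ev : C7 →ₗ[ZMod 3] V7 := Fintype.linearCombination (ZMod 3) v
  have hev : ∀ x, ev x = ∑ i, x i • v i := fun x => Fintype.linearCombination_apply _ _ _
  have hpolar_v : ∀ i x, polar Q (v i) (ev x) = 2 * c * x i := fun i x => by
    rw [hev, ← polarBilin_apply_apply, map_sum]
    simp only [map_smul, polarBilin_apply_apply, hvorth, smul_eq_mul, mul_ite, mul_zero,
      Finset.sum_ite_eq, Finset.mem_univ, if_true]
    ring
  have hpolar : ∀ x y, polar Q (ev x) (ev y) = 2 * c * dot x y := fun x y => by
    rw [hev x, polar_comm, ← polarBilin_apply_apply, map_sum]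
    simp only [map_smul, polarBilin_apply_apply, smul_eq_mul, polar_comm (⇑Q) (ev y), hpolar_v,
      Fin.sum_univ_seven, dot]
    ring
  have hquad : ∀ x, Q (ev x) = c * dot x x := fun x => by
    have h := hpolar x x
    rw [polar_self', mul_assoc] at h
    exact mul_left_cancel₀ (by decide) h
  have hevinj : Function.Injective ev := by
    rw [injective_iff_map_eq_zero]
    intro x hx
    funext i
    have h := hpolar_v i x
    rw [hx, polar_zero_right] at h
    exact (mul_eq_zero.1 h.symm).resolve_left h2c
  have hevsurj : Function.Surjective ev := LinearMap.injective_iff_surjective.1 hevinj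
  have hrefl : ∀ x y, dot x x = 1 → (refl Q (ev x)).1 (ev y) = ev (rfl7 x y) := by
    intro x y hx
    rw [refl_apply, hquad, hx, mul_one, hpolar, show c⁻¹ * (2 * c * dot x y) = 2 * dot x y by
      field_simp, show rfl7 x y = y + dot x y • x from funext fun i => rfl, map_add, map_smul,
      sub_eq_add_neg, ← neg_smul, show -(2 * dot x y) = dot x y by
        generalize dot x y = a
        revert a
        decide]
  let X : Set C7 := {x | ∃ s ∈ N, vec s = ev x ∨ vec s = -ev x}
  have hX : Good X := by
    refine ⟨?_, ?_, ?_, ?_, ?_⟩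
    · rintro x ⟨s, hs, e | e⟩
      · have := hC.norm s (hNS hs)
        rw [e, hquad] at this
        exact (mul_eq_left₀ hc).1 this
      · have := hC.norm s (hNS hs)
        rw [e, QuadraticMap.map_neg, hquad] at this
        exact (mul_eq_left₀ hc).1 this
    · intro i
      refine ⟨p i, hpN i, Or.inl ?_⟩
      rw [hev]
      simp [Pi.single_apply, v]
    · rintro x ⟨s, hs, e⟩
      exact ⟨s, hs, by rw [map_neg, neg_neg]; exact e.symm⟩
    · rintro x ⟨s, hs, es⟩ y ⟨t, ht, et⟩
      have hx : dot x x = 1 := by
        have := hC.norm s (hNS hs)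
        rcases es with e | e <;> rw [e] at this
        · exact (mul_eq_left₀ hc).1 (by rw [← hquad]; exact this)
        · rw [QuadraticMap.map_neg] at this
          exact (mul_eq_left₀ hc).1 (by rw [← hquad]; exact this)
      refine ⟨s * t * s, hclosed s hs t ht, ?_⟩
      have e1 : refl Q (vec s) = refl Q (ev x) := by
        rcases es with e | e <;> rw [e]
        exact refl_neg _
      have e2 := hC.conj s (hNS hs) t (hNS ht)
      rw [e1] at e2
      rcases et with e | e <;> rw [e] at e2 <;> simp only [map_neg, neg_neg, hrefl x y hx] at e2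
      · exact e2
      · exact e2.symm
    · intro i
      let g : G → C7 := fun t => Function.invFun ev (vec t)
      have hg : ∀ t, ev (g t) = vec t := fun t => Function.invFun_eq (hevsurj _)
      set A := {t | t ∈ N ∧ t ≠ p i ∧ Commute (p i) t} with hA
      have hset : {x | x ∈ X ∧ x i = 0} = g '' A ∪ (fun t => -g t) '' A := by
        ext x
        constructor
        · rintro ⟨⟨t, ht, et⟩, hxi⟩
          have hp0 : polar Q (v i) (vec t) = 0 := by
            rcases et with e | e <;> rw [e] <;>
              simp [polar_neg_right, hpolar_v, hxi]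
          have hA' : t ∈ A := ⟨ht, fun e => h2c (by
              rw [e] at hp0
              change polar Q (v i) (v i) = 0 at hp0
              rwa [polar_self', hvq] at hp0),
            (hC.orth _ (hNS (hpN i)) _ (hNS ht)).2 (Or.inl hp0)⟩
          rcases et with e | e
          · exact Or.inl ⟨t, hA', hevinj (by rw [hg, e])⟩
          · exact Or.inr ⟨t, hA', hevinj (by rw [map_neg, hg, e, neg_neg])⟩
        · intro hx
          obtain ⟨t, ⟨ht, hne', hct⟩, hxt⟩ : ∃ t ∈ A, x = g t ∨ x = -g t := by
            rcases hx with ⟨t, ht, rfl⟩ | ⟨t, ht, rfl⟩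
            exacts [⟨t, ht, Or.inl rfl⟩, ⟨t, ht, Or.inr rfl⟩]
          have h0 := ((hC.orth _ (hNS (hpN i)) _ (hNS ht)).1 hct).resolve_right (Ne.symm hne')
          refine ⟨⟨t, ht, ?_⟩, ?_⟩
          · rcases hxt with rfl | rfl <;> simp [hg]
          · refine (mul_eq_zero.1 ?_).resolve_left h2c
            rw [← hpolar_v]
            rcases hxt with rfl | rfl
            · rw [hg]; exact h0
            · rw [map_neg, hg, polar_neg_right, show polar Q (v i) (vec t) = 0 from h0, neg_zero]
      have hginj : Set.InjOn g A := fun t ht t' ht' e =>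
        hC.line t (hNS ht.1) t' (hNS ht'.1) (Or.inl (by rw [← hg t, e, hg]))
      have hdis : Disjoint (g '' A) ((fun t => -g t) '' A) := by
        rw [Set.disjoint_left]
        rintro _ ⟨t, ht, rfl⟩ ⟨t', ht', e⟩
        have e' : vec t = -vec t' := by rw [← hg t, ← e, map_neg, hg]
        have := hC.line t (hNS ht.1) t' (hNS ht'.1) (Or.inr e')
        subst this
        exact neg_ne_self (fun e0 => hc (by
          rw [← hC.norm t (hNS ht.1), e0, QuadraticMap.map_zero])) e'.symm
      have hinj2 : Set.InjOn (fun t => -g t) A := fun t ht t' ht' e => hginj ht ht' (neg_inj.1 e)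
      rw [hset, Set.ncard_union_eq hdis, hginj.ncard_image, hinj2.ncard_image,
        hA, h30 (p i) (hpN i)]
  obtain ⟨w, hw, hin, hout⟩ := exists_config hX
  obtain ⟨hlen, hnorm, hadj, hsp, hsv⟩ := configs_ok w hw
  have hsv8 : ∀ k : Fin 8, ∃ s ∈ S, vec s = ev (nodeVec w k) ∨ vec s = -ev (nodeVec w k) :=
    fun k => hC.surj _ (by rw [hquad, hnorm, mul_one])
  choose s hsS hsvec using hsv8
  refine ⟨s, hsS, fun k hk => ?_, ?_, fun j k hjk => ?_, ?_, ?_⟩
  · have hmem : nodeVec w k ∈ X := by
      refine hin (w.getD k.1 (0, 0)) ?_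
      rw [List.getD_eq_getElem _ _ (by omega : k.1 < w.length)]
      exact List.mem_take_iff_getElem.2 ⟨k.1, by omega, rfl⟩
    obtain ⟨t, ht, et⟩ := hmem
    have : s k = t := hC.line _ (hsS k) t (hNS ht) (by
      rcases hsvec k with e | e <;> rcases et with e' | e' <;> simp [e, e'])
    rw [this]; exact ht
  · exact fun h => hout ⟨s 7, h, hsvec 7⟩
  · obtain ⟨hd, hne', i, hi⟩ := hadj j k hjk
    have hsne : s j ≠ s k := fun e => by
      have h1 := hsvec j
      rw [e] at h1
      rcases hsvec k with e2 | e2 <;> rcases h1 with e1 | e1 <;> rw [e2] at e1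
      · exact hne' (hevinj e1).symm
      · rw [← map_neg] at e1
        exact hi (by rw [hevinj e1]; simp)
      · rw [← map_neg] at e1
        exact hi (by rw [← hevinj e1]; rfl)
      · exact hne' (hevinj (neg_inj.1 e1)).symm
    rw [hC.orth _ (hsS j) _ (hsS k), or_iff_left hsne]
    have hp : polar Q (vec (s j)) (vec (s k)) = 0 ↔ dot (nodeVec w j) (nodeVec w k) = 0 := by
      rcases hsvec j with e | e <;> rcases hsvec k with e' | e' <;>
        simp [e, e', polar_neg_left, polar_neg_right, hpolar, h2c]
    rw [hp, ← Bool.not_eq_true, ← hd, not_not]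
  all_goals
    refine hC.word _ (fun a ha => ?_) ?_
    · obtain ⟨k, -, rfl⟩ := List.mem_map.1 ha
      exact hsS k
  · exact word_pm hrefl hevsurj hnorm hsvec hsp
  · exact word_pm hrefl hevsurj hnorm hsvec hsv
where
  word_pm {ev : C7 →ₗ[ZMod 3] V7} {w : List (ℕ × ℕ)} {s : Fin 8 → G} {l : List (Fin 8)}
      (hrefl : ∀ x y, dot x x = 1 → (refl Q (ev x)).1 (ev y) = ev (rfl7 x y))
      (hsurj : Function.Surjective ev) (hnorm : ∀ j : Fin 8, dot (nodeVec w j) (nodeVec w j) = 1)
      (hsvec : ∀ k, vec (s k) = ev (nodeVec w k) ∨ vec (s k) = -ev (nodeVec w k))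
      (hl : actsPM (l.map (nodeVec w)) = true) :
      IsPM ((l.map s).map fun a => refl Q (vec a)).prod := by
    set P := ((l.map s).map fun a => refl Q (vec a)).prod with hP
    have hact : ∀ (l : List (Fin 8)) y, (((l.map s).map fun a => refl Q (vec a)).prod).1 (ev y) =
        ev (app (l.map (nodeVec w)) y) := by
      intro l
      induction l with
      | nil => intro y; rfl
      | cons k l ih =>
        intro y
        simp only [List.map_cons, List.prod_cons, mul_apply', ih]
        rw [show app (nodeVec w k :: l.map (nodeVec w)) y =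
          rfl7 (nodeVec w k) (app (l.map (nodeVec w)) y) from rfl, ← hrefl _ _ (hnorm k)]
        rcases hsvec k with e | e <;> rw [e]
        rw [refl_neg]
    simp only [actsPM, List.any_eq_true, decide_eq_true_eq] at hl
    obtain ⟨r, hr, hrl⟩ := hl
    have hall : ∀ y, P.1 (ev y) = r • ev y := by
      intro y
      have key : (P.1 : V7 →ₗ[ZMod 3] V7).comp ev = r • ev := by
        refine (Pi.basisFun (ZMod 3) (Fin 7)).ext fun j => ?_
        rw [Pi.basisFun_apply, LinearMap.comp_apply, LinearMap.smul_apply, ← map_smul]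
        refine (hact l _).trans (congrArg ev (funext fun i => ?_))
        rw [hrl j i]
        simp [Pi.single_apply]
      exact congrFun (congrArg DFunLike.coe key) y
    simp only [List.mem_cons, List.not_mem_nil, or_false] at hr
    rcases hr with rfl | rfl
    · refine Or.inl (Subtype.ext (LinearEquiv.ext fun x => ?_))
      obtain ⟨y, rfl⟩ := hsurj x
      rw [hall, one_smul]
      rfl
    · refine Or.inr (Subtype.ext (LinearEquiv.ext fun x => ?_))
      obtain ⟨y, rfl⟩ := hsurj x
      rw [hall, neg_one_smul]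
      rfl

end CfsgLib.Sporadic.FiTransfer23.Diag
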