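import Cfsg.Agent.Lib.Sporadic.FiTransfer23.Frame

/-!
# The identification given by an isomorphism with the projective reflection group
-/

set_option autoImplicit false

namespace CfsgLib.Sporadic.FiTransfer23.Frame

open QuadraticMap Module CfsgLib.Orth CfsgLib.ThreeTransp.ReflThree Ortho

/-- Reflection groups modulo the centre give identifications. -/
theorem exists_ident {G : Type*} [Group G] {S : Set G} {μ c : ZMod 3} (hc : c ≠ 0)
    (h : Cfsg.IsProjReflectionGroupModThree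
      (↥(Subgroup.closure S) ⧸ Subgroup.center ↥(Subgroup.closure S)) 7 μ c) :
    ∃ Q : QuadraticForm (ZMod 3) (Fin 7 → ZMod 3), (polarBilin Q).Nondegenerate ∧
      Cfsg.polarGramDet (⇑Q) = μ ∧ ∃ Im, Ident S Q c Im := by
  obtain ⟨Q, hQ, hdet, ⟨e⟩⟩ := h
  refine ⟨Q, hQ, hdet, ?_⟩
  set L := Subgroup.closure S
  set W := Cfsg.reflectionSubgroup (⇑Q) c
  let ι : ↥W →* orthGroup Q := (toOrth Q (fun _ => rfl)).toMonoidHom.comp W.subtype
  let φ : ↥L →* ↥W ⧸ Subgroup.center ↥W :=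
    e.toMonoidHom.comp (QuotientGroup.mk' (Subgroup.center ↥L))
  have hι : Function.Injective ι :=
    (toOrth Q (fun _ => rfl)).injective.comp Subtype.val_injective
  have hrange : ∀ r, r ∈ R0 Q c ↔ ∃ w : ↥W, ι w = r := by
    intro r
    constructor
    · intro hr
      refine ⟨⟨(toOrth Q (fun _ => rfl)).symm r, ?_⟩, (toOrth Q (fun _ => rfl)).apply_symm_apply r⟩
      show _ ∈ Cfsg.reflectionSubgroup (⇑Q) c
      rw [reflectionSubgroup_eq, Subgroup.mem_comap]
      simpa using hr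
    · rintro ⟨⟨w, hw⟩, rfl⟩
      change w ∈ Cfsg.reflectionSubgroup (⇑Q) c at hw
      rw [reflectionSubgroup_eq] at hw
      exact hw
  have hcent : ∀ w : ↥W, w ∈ Subgroup.center ↥W ↔ IsPM (ι w) := by
    intro w
    rw [Subgroup.mem_center_iff]
    constructor
    · intro h
      refine pm_of_comm hQ hc fun v hv => ?_
      obtain ⟨w', hw'⟩ := (hrange _).1 (refl_mem hv)
      rw [← hw', ← map_mul, ← map_mul, h w']
    · intro h w'
      exact hι (by rw [map_mul, map_mul, h.comm])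
  refine ⟨fun g r => ∃ (hg : g ∈ L) (w : ↥W), ι w = r ∧ φ ⟨g, hg⟩ = QuotientGroup.mk w,
    ⟨?_, ?_, ?_, ?_, ?_, ?_, ?_, ?_⟩⟩
  · rintro g g' r r' ⟨hg, w, rfl, h1⟩ ⟨hg', w', rfl, h2⟩
    refine ⟨mul_mem hg hg', w * w', map_mul ι w w', ?_⟩
    rw [QuotientGroup.mk_mul, ← h1, ← h2, ← map_mul]
    rfl
  · exact ⟨one_mem _, 1, map_one ι, (map_one φ).trans rfl⟩
  · rintro g r ⟨hg, w, rfl, h1⟩
    refine ⟨inv_mem hg, w⁻¹, map_inv ι w, ?_⟩
    rw [QuotientGroup.mk_inv, ← h1, ← map_inv]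
    rfl
  · intro g hg
    obtain ⟨w, hw⟩ := QuotientGroup.mk_surjective (φ ⟨g, hg⟩)
    exact ⟨ι w, hg, w, rfl, hw.symm⟩
  · intro r hr
    obtain ⟨w, rfl⟩ := (hrange r).1 hr
    obtain ⟨x, hx⟩ := QuotientGroup.mk_surjective (e.symm (QuotientGroup.mk w))
    exact ⟨x, x.2, w, rfl, by
      show e (QuotientGroup.mk x) = _
      rw [hx, MulEquiv.apply_symm_apply]⟩
  · rintro g r ⟨hg, w, rfl, -⟩
    exact ⟨hg, (hrange _).2 ⟨w, rfl⟩⟩
  · rintro g r r' ⟨hg, w, rfl, h1⟩ ⟨hg', w', rfl, h2⟩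
    rw [← map_inv, ← map_mul, ← hcent]
    exact QuotientGroup.eq.1 (h1.symm.trans h2)
  · rintro g r ⟨hg, w, rfl, h1⟩
    rw [← hcent, ← QuotientGroup.eq_one_iff, ← h1]
    show (∀ u ∈ S, Commute g u) ↔ e (QuotientGroup.mk (⟨g, hg⟩ : ↥L)) = 1
    rw [MulEquiv.map_eq_one_iff, QuotientGroup.eq_one_iff, Subgroup.mem_center_iff]
    constructor
    · intro h k
      refine Subtype.ext ?_
      obtain ⟨k, hk⟩ := k
      have : Commute g k := by
        induction hk using Subgroup.closure_induction with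
        | mem u hu => exact h u hu
        | one => exact Commute.one_right _
        | mul _ _ _ _ h1 h2 => exact h1.mul_right h2
        | inv _ _ h => exact h.inv_right
      exact this.symm.eq
    · intro h u hu
      exact (congrArg Subtype.val (h ⟨u, Subgroup.subset_closure hu⟩)).symm

end CfsgLib.Sporadic.FiTransfer23.Frame
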