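import Cfsg.Agent.Lib.Sporadic.FiTransfer23.PairModel
import Cfsg.Agent.Lib.Sporadic.FiTransfer23.Ident
import Cfsg.Agent.Lib.Sporadic.FiTransfer23.Diag
import Cfsg.Agent.Lib.ThreeTransp.Indep.Types
import Cfsg.Agent.Lib.ThreeTransp.TypeTwentyFour.Model

/-!
# Groups of type M(23) are the presented group Fi23, given the same for M(22)

The nodes a, b, c, d, e, h, i and f are found among the common neighbours of a non-commuting pair
d, c; the node g is a further neighbour of d and j is c. Both further relators are central, so the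
group they generate covers Fi23, and a count of neighbours shows that it is the whole group.
-/

universe u

set_option autoImplicit false
set_option linter.unusedSectionVars false

open Cfsg.Spor

namespace CfsgLib.Sporadic.FiTransfer23.Transfer

open FischerTransitivity CfsgLib.ThreeTransp Indep Relation

/-- The transfer for type M(22), as a hypothesis. -/
def M22Transfer : Prop :=
  ∀ (G : Type u) [Group G] [Finite G] (D : Set G), Cfsg.IsThreeTranspositionGroup D →
    Cfsg.IsPrimitiveUnderConj D → Cfsg.IsOfTypeM22 G D → FiTransfer.ModelIso G D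

variable {G : Type u} [Group G] [Finite G] {D : Set G}

/-- The facts at one member. -/
structure AtMember (D : Set G) (x : G) : Prop where
  pair : ∀ a ∈ Nb D x, ∀ b ∈ Nb D x, ¬ Commute a b → PairFacts (Nb D x) a b
  card : (Nb D x).ncard = 3510

theorem nimg_conj_commute (hG : Cfsg.IsThreeTranspositionGroup D) {x : G} {a b : G} (ha : a ∈ Nb D x)
    (hb : b ∈ Nb D x) : Commute (nimg ha) (nimg hb) ↔ Commute a b :=
  nimg_commute_iff hG ha hb

theorem atMember (hM22 : M22Transfer.{u}) (h : Good D) (h23 : Cfsg.IsOfTypeM23 G D) :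
    ∀ x ∈ D, AtMember D x := by
  classical
  obtain ⟨-, hsepAt, -⟩ := m23_facts h h23
  obtain ⟨-, d, hd, c, hc, hdc, h22, c₃, hc₃, hrefl⟩ := h23
  have hns := not_solvable_of_quot (not_solvable_of_reflection (by norm_num) hc₃ hrefl)
  obtain ⟨hG1, hgood, -, -⟩ := good_m22 h hd hd hc hdc hns h22
  have hprim : Cfsg.IsPrimitiveUnderConj (ND D d) :=
    FischerPrimitive.primitive hG1 hgood.cls hgood.two hgood.perf hgood.central
  obtain ⟨e, he⟩ := hM22 (NQ D d) (ND D d) hG1 hprim h22
  obtain ⟨u, hu, v, hv, huv, hfacts⟩ := PairModel.exists_pair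
  obtain ⟨u₀, hu₀, rfl⟩ : u ∈ e '' ND D d := he ▸ hu
  obtain ⟨v₀, hv₀, rfl⟩ : v ∈ e '' ND D d := he ▸ hv
  have hbase : PairFacts (ND D d) u₀ v₀ :=
    PairFacts.pullback e (fun a ha => he ▸ ⟨a, ha, rfl⟩) e.injective.injOn
      (fun b hb => by rw [← he] at hb; exact hb) (fun a _ b _ => FiTransfer.commute_iff e) hu₀ hv₀ hfacts
  have hquot : ∀ p ∈ ND D d, ∀ q ∈ ND D d, ¬ Commute p q → PairFacts (ND D d) p q := by
    intro p hp q hq hpq
    obtain ⟨k, hk⟩ := hgood.cls p hp u₀ hu₀
    have huv₀ : ¬ Commute u₀ v₀ := fun hcm => huv ((FiTransfer.commute_iff e).2 hcm)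
    have hkq : ¬ Commute u₀ (k * q * k⁻¹) := fun hcm => hpq (by
      rw [← hk] at hcm
      exact (conj_commute_iff k p q).1 hcm)
    obtain ⟨k', hk1, hk2⟩ := hgood.adj hu₀ (nd_conj h.grp k hq) hv₀ hkq huv₀
    refine PairFacts.conj (fun g a ha => nd_conj h.grp g ha) hp hq (k' * k) ?_
    have e1 : k' * k * p * (k' * k)⁻¹ = u₀ := by
      rw [show k' * k * p * (k' * k)⁻¹ = k' * (k * p * k⁻¹) * k'⁻¹ by group, hk, hk1]
    have e2 : k' * k * q * (k' * k)⁻¹ = v₀ := by
      rw [show k' * k * q * (k' * k)⁻¹ = k' * (k * q * k⁻¹) * k'⁻¹ by group, hk2]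
    rw [e1, e2]
    exact hbase
  let θ : G → NQ D d := fun a => if ha : a ∈ Nb D d then nimg ha else 1
  have hθ : ∀ {a} (ha : a ∈ Nb D d), θ a = nimg ha := fun ha => dif_pos ha
  have hinj : Set.InjOn θ (Nb D d) := fun a ha b hb hab => by
    rw [hθ ha, hθ hb, nimg_eq_iff h.grp ha hb] at hab
    exact h.injAt hsepAt hd a ha b hb hab
  have hsurj : ∀ q ∈ ND D d, ∃ a ∈ Nb D d, θ a = q := fun q hq => by
    obtain ⟨a, ha, rfl⟩ := exists_nimg hq
    exact ⟨a, ha, hθ ha⟩
  have hD : AtMember D d := by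
    refine ⟨fun a ha b hb hab => PairFacts.pullback θ (fun z hz => by rw [hθ hz]; exact nimg_mem hz)
      hinj hsurj (fun z hz w hw => by rw [hθ hz, hθ hw]; exact nimg_commute_iff h.grp hz hw) ha hb
      ?_, ?_⟩
    · rw [hθ ha, hθ hb]
      exact hquot _ (nimg_mem ha) _ (nimg_mem hb) fun hcm => hab ((nimg_commute_iff h.grp ha hb).1 hcm)
    · have himg : θ '' Nb D d = ND D d := by
        ext q
        exact ⟨fun ⟨a, ha, e'⟩ => e' ▸ (by rw [hθ ha]; exact nimg_mem ha), fun hq => hsurj q hq⟩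
      rw [← hinj.ncard_image, himg, ← Set.ncard_image_of_injective _ e.injective, he,
        show FiTransfer.classTr = Set.range PairModel.tau from Set.ext fun y =>
          ⟨fun hy => PairModel.tau_surj hy, fun ⟨z, hz⟩ => hz ▸ PairModel.tau_mem z⟩,
        Set.ncard_range_of_injective PairModel.tau_inj]
      exact Nat.card_fin _
  intro x hx
  obtain ⟨g, rfl⟩ := h.cls d hd x hx
  have himg : (fun a => g * a * g⁻¹) '' Nb D d = Nb D (g * d * g⁻¹) :=
    (FischerRankThree.nb_image h.grp g d).symm ▸ rfl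
  refine ⟨fun a ha b hb hab => ?_, ?_⟩
  · refine PairFacts.pullback (fun z => g⁻¹ * z * g)
      (fun z hz => by simpa [mul_assoc] using mem_nb_conj h.grp hz)
      (fun z _ w _ e' => mul_left_cancel (mul_right_cancel e'))
      (fun z hz => ⟨g * z * g⁻¹, nb_conj h.grp g hz, by group⟩)
      (fun z _ w _ => by simpa using conj_commute_iff g⁻¹ z w) ha hb ?_
    exact hD.pair _ (mem_nb_conj h.grp ha) _ (mem_nb_conj h.grp hb)
      fun hcm => hab ((by simpa using conj_commute_iff g⁻¹ a b : _ ↔ _).1 hcm)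
  · rw [← himg, Set.ncard_image_of_injective _
      fun a b e' => mul_left_cancel (mul_right_cancel e'), hD.card]

theorem prod_flatten_replicate {α M : Type*} [Monoid M] (f : α → M) (L : List α) :
    ∀ n, ((List.replicate n L).flatten.map f).prod = (L.map f).prod ^ n
  | 0 => by simp
  | n + 1 => by
    rw [List.replicate_succ, List.flatten_cons, List.map_append, List.prod_append,
      prod_flatten_replicate f L n, pow_succ']

/-- The ten nodes. -/
def node (s : Fin 8 → G) (y c : G) : Fi23.Gen → G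
  | .a => s 0 | .b => s 1 | .c => s 2 | .d => s 3 | .e => s 4 | .f => s 7 | .g => y | .j => c
  | .h => s 5 | .i => s 6

theorem exists_nodes (hM22 : M22Transfer.{u}) (h : Good D) (h23 : Cfsg.IsOfTypeM23 G D) :
    ∃ F : Fi23.Gen → G, (∀ a, F a ∈ D) ∧
      (∀ a b, (F a * F b) ^ coxLabel Fi23.edges a b = 1) ∧
      (¬ Commute (F .a) (F .b)) ∧
      ∀ r ∈ Fi23.extra, ∀ a, Commute (FreeGroup.lift F r) (F a) := by
  have hat := atMember hM22 h h23
  obtain ⟨-, d, hd, c, hc, hdc, -, c₃, hc₃, hrefl⟩ := h23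
  set S := Nb D d ∩ Nb D c with hSdef
  have hcd : ¬ Commute c d := fun e => hdc e.symm
  have hmemS : ∀ {x q}, q ∈ Com (Nb D x) d c → q ∈ S := by
    rintro x q ⟨hq, h1, h2⟩
    refine ⟨⟨hq.1, ?_, h1⟩, ⟨hq.1, ?_, h2⟩⟩
    · rintro rfl; exact hcd h2
    · rintro rfl; exact hdc h1
  have hdS : ∀ s ∈ S, d ∈ Nb D s ∧ c ∈ Nb D s ∧ PairFacts (Nb D s) d c := fun s hs =>
    have h1 := FischerLines.nb_symm hd hs.1
    have h2 := FischerLines.nb_symm hc hs.2
    ⟨h1, h2, (hat s hs.1.1).pair d h1 c h2 hdc⟩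
  have hinS : ∀ {s q}, s ∈ S → q ∈ S → q ≠ s → Commute s q → q ∈ Com (Nb D s) d c :=
    fun hs hq hne hcm => ⟨⟨hq.1.1, hne, hcm⟩, hq.1.2.2, hq.2.2.2⟩
  have hcom : ∀ s ∈ S, ∃ q ∈ S, q ≠ s ∧ Commute s q := fun s hs => by
    obtain ⟨-, -, hp⟩ := hdS s hs
    obtain ⟨w, hw⟩ := hp.nonempty
    obtain ⟨q, hq, -⟩ : {q | q ∈ Com (Nb D s) d c ∧ Commute w q}.Nonempty :=
      Set.nonempty_of_ncard_ne_zero (by rw [hp.thirty w hw]; norm_num)
    exact ⟨q, hmemS hq, hq.1.2.1, hq.1.2.2⟩
  have hsix : ∀ s ∈ S, ∀ w ∈ Mov (Nb D s) d c, ∃ f : Fin 6 → G, Function.Injective f ∧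
      (∀ i, f i ∈ S ∧ f i ≠ s ∧ Commute s (f i) ∧ Commute w (f i)) ∧
      ∀ i j, Commute (f i) (f j) := fun s hs w hw => by
    obtain ⟨f, hf, hfm, hfc⟩ := (hdS s hs).2.2.six w hw
    exact ⟨f, hf, fun i => ⟨hmemS (hfm i).1, (hfm i).1.1.2.1, (hfm i).1.1.2.2, (hfm i).2⟩, hfc⟩
  have hSne : S.Nonempty := by
    by_contra hemp
    rw [Set.not_nonempty_iff_eq_empty] at hemp
    refine not_solvable_of_quot (not_solvable_of_reflection (by norm_num) hc₃ hrefl) ?_
    have : Group.IsSolvable ↥(Subgroup.closure S) := by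
      rw [hemp, Subgroup.closure_empty]
      exact Group.isSolvable_of_comm fun a b => Subsingleton.elim _ _
    exact this
  obtain ⟨e₀, he₀⟩ := hSne
  obtain ⟨y, hy⟩ := (hdS e₀ he₀).2.2.nonempty
  have hydef : y ∈ Nb D d := ⟨hy.1.1, hy.2.1, hy.2.2.1⟩
  have hyc : ¬ Commute c y := hy.2.2.2
  have hcj : ∀ {x z : G}, x ∈ D → z ∈ D → cj x z = x * z * x⁻¹ := fun hx _ => cj_conj h.grp hx _
  have hS : Frame.Hyp S := by
    refine ⟨fun s hs => sq h.grp hs.1.1, fun s hs t ht => ?_, fun s hs t ht => h.grp.1.2 s hs.1.1 t ht.1.1,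
      fun s hs => ?_, fun s hs t ht hne hcm => ?_, ?_⟩
    · have e1 : s * t * s = s * t * s⁻¹ := by rw [inv_eq h.grp hs.1.1]
      have h1 := nb_conj h.grp s ht.1
      have h2 := nb_conj h.grp s ht.2
      rw [show s * d * s⁻¹ = d by rw [← hs.1.2.2.eq, mul_inv_cancel_right]] at h1
      rw [show s * c * s⁻¹ = c by rw [← hs.2.2.2.eq, mul_inv_cancel_right]] at h2
      exact e1 ▸ ⟨h1, h2⟩
    · obtain ⟨q, hq, hne, hcm⟩ := hcom s hs
      obtain ⟨t, ht, hn⟩ := (hdS q hq).2.2.apart s (hinS hq hs hne.symm hcm.symm)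
      exact ⟨t, hmemS ht, hn⟩
    · obtain ⟨u, hu, hn⟩ := (hdS s hs).2.2.apart t (hinS hs ht (Ne.symm hne) hcm)
      exact ⟨u, hmemS hu, hu.1.2.2, hn⟩
    · obtain ⟨f, hf, hfm, hfc⟩ := hsix e₀ he₀ y hy
      let g : Fin 7 → G := fun i => if h6 : i.1 < 6 then f ⟨i.1, h6⟩ else e₀
      refine ⟨g, fun i j e => ?_, fun i => ?_, fun i j => ?_⟩
      · simp only [g] at e
        split_ifs at e with h1 h2 h3
        · exact Fin.ext (Fin.mk.inj (hf e) :)
        · exact absurd e (hfm _).2.1
        · exact absurd e.symm (hfm _).2.1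
        · exact Fin.ext (by omega)
      · simp only [g]
        split_ifs
        exacts [(hfm _).1, he₀]
      · simp only [g]
        split_ifs
        exacts [hfc _ _, (hfm _).2.2.1.symm, (hfm _).2.2.1, Commute.refl _]
  obtain ⟨Q, hQ, hdet, Im, hI⟩ := Frame.exists_ident (S := S) hc₃ hrefl
  obtain ⟨vec, hC⟩ := Frame.Ident.coord hI hS hQ hc₃ hdet
  set N : Set G := {q | q ∈ S ∧ Commute y q} with hN
  have hmov : ∀ e ∈ N, y ∈ Mov (Nb D e) d c := fun e he =>
    ⟨⟨hydef.1, fun e' => hyc (e' ▸ he.1.2.2.2), he.2.symm⟩, hydef.2.1, hydef.2.2, hyc⟩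
  have hNne : N.Nonempty := ⟨e₀, he₀, hy.1.2.2.symm⟩
  obtain ⟨s, hsS, hsN, hs7, hsadj, hsp, hsv⟩ := Diag.exists_diag hC hc₃ (N := N) (fun q hq => hq.1)
    hNne (fun a ha b hb => ⟨hS.conj a ha.1 b hb.1, (ha.2.mul_right hb.2).mul_right ha.2⟩)
    (fun e he => by
      rw [← (hdS e he.1).2.2.thirty y (hmov e he)]
      congr 1
      ext t
      constructor
      · rintro ⟨⟨htS, hyt⟩, hne, hcm⟩
        exact ⟨hinS he.1 htS hne hcm, hyt⟩
      · rintro ⟨ht, hyt⟩
        exact ⟨⟨hmemS ht, hyt⟩, ht.1.2.1, ht.1.2.2⟩)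
    (fun e he => by
      obtain ⟨f, hf, hfm, hfc⟩ := hsix e he.1 y (hmov e he)
      exact ⟨f, hf, fun i => ⟨⟨(hfm i).1, (hfm i).2.2.2⟩, (hfm i).2.1, (hfm i).2.2.1⟩, hfc⟩)
  let F := node s y c
  have hFD : ∀ a, F a ∈ D := fun a => by
    cases a <;> first | exact (hsS _).1.1 | exact hydef.1 | exact hc
  have hzy : ∀ l : List (Fin 8), (∀ u ∈ S, Commute (l.map s).prod u) → ∀ a, Commute (l.map s).prod (F a) := by
    intro l hl
    set z := (l.map s).prod with hz
    have hzl : ∀ w : G, (∀ k, Commute (s k) w) → Commute z w := by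
      intro w hw
      rw [hz]
      clear hl hz z
      induction l with
      | nil => exact Commute.one_left w
      | cons k l ih => rw [List.map_cons, List.prod_cons]; exact (hw k).mul_left ih
    have hzd : Commute z d := hzl d fun k => (hsS k).1.2.2.symm
    have hzc : Commute z c := hzl c fun k => (hsS k).2.2.2.symm
    have hze : Commute z e₀ := hl e₀ he₀
    have hzy : Commute z y := by
      have hy' : z * y * z⁻¹ ∈ Mov (Nb D e₀) d c := by
        refine ⟨?_, fun e' => hy.2.1 ?_, ?_, fun e' => hyc ?_⟩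
        · have := nb_conj h.grp z hy.1
          rwa [hze.eq, mul_inv_cancel_right] at this
        · rw [show y = z⁻¹ * (z * y * z⁻¹) * z by group, e', mul_assoc, ← hzd.eq, inv_mul_cancel_left]
        · have := (conj_commute_iff z d y).2 hy.2.2.1
          rwa [hzd.eq, mul_inv_cancel_right] at this
        · refine (conj_commute_iff z c y).1 ?_
          rwa [hzc.eq, mul_inv_cancel_right]
      have e := (hdS e₀ he₀).2.2.unique y hy _ hy' fun q hq hyq => by
        have := (conj_commute_iff z y q).2 hyq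
        rwa [(hl q (hmemS hq)).eq, mul_inv_cancel_right] at this
      show z * y = y * z
      calc z * y = (z * y * z⁻¹) * z := by group
        _ = y * z := by rw [← e]
    intro a
    cases a <;> first | exact hl _ (hsS _) | exact hzy | exact hzc
  refine ⟨F, hFD, ?_, ?_, ?_⟩
  · have hcomm : ∀ a b, a ≠ b → coxLabel Fi23.edges a b = 2 → Commute (F a) (F b) := by
      intro a b hab hl
      have hs : ∀ j k : Fin 8, j ≠ k → Diag.adj8 j k = false → Commute (s j) (s k) :=
        fun j k hjk hf => (hsadj j k hjk).2 hf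
      cases a <;> cases b <;>
        first
          | exact absurd rfl hab
          | exact absurd hl (by decide)
          | exact hs _ _ (by decide) (by decide)
          | exact (hsN _ (by decide)).2
          | exact (hsN _ (by decide)).2.symm
          | exact (hsS _).2.2.2
          | exact (hsS _).2.2.2.symm
    intro a b
    by_cases hab : a = b
    · subst hab
      rw [show coxLabel Fi23.edges a a = 1 by simp [coxLabel], pow_one]
      exact sq h.grp (hFD a)
    rcases (show coxLabel Fi23.edges a b = 2 ∨ coxLabel Fi23.edges a b = 3 by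
      revert hab; cases a <;> cases b <;> decide) with hl | hl
    · rw [hl]
      exact (Basic.commute_iff (sq h.grp (hFD a)) (sq h.grp (hFD b))).1 (hcomm a b hab hl)
    · rw [hl]
      refine ((h.grp.1.2 _ (hFD a) _ (hFD b))).resolve_left fun h2 => ?_
      have hn : ∀ j k : Fin 8, j ≠ k → Diag.adj8 j k = true → ¬ Commute (s j) (s k) := fun j k hjk ht e => by
        rw [(hsadj j k hjk).1 e] at ht
        exact absurd ht (by decide)
      have hgf : ¬ Commute (s 7) y := fun e => hs7 ⟨hsS 7, e.symm⟩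
      refine absurd ((Basic.commute_iff (sq h.grp (hFD a)) (sq h.grp (hFD b))).2 h2) ?_
      cases a <;> cases b <;>
        first
          | exact absurd rfl hab
          | exact absurd hl (by decide)
          | exact hn _ _ (by decide) (by decide)
          | exact hgf
          | exact fun e => hgf e.symm
          | exact fun e => hyc e
          | exact fun e => hyc e.symm
  · intro e
    exact absurd ((hsadj 0 1 (by decide)).1 e) (by decide)
  · intro r hr a
    simp only [Fi23.extra, List.mem_cons, List.not_mem_nil, or_false] at hr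
    rcases hr with rfl | rfl
    · have := hzy Diag.spider hsp a
      rw [Diag.spider, prod_flatten_replicate] at this
      simpa [F, node, mul_assoc] using this
    · have := hzy Diag.sevenWord hsv a
      rw [Diag.sevenWord, prod_flatten_replicate] at this
      simpa [F, node, mul_assoc] using this

/-- A group of type M(23) is the presented Fi23 with its class of transpositions. -/
theorem modelIso_of (hM22 : M22Transfer.{u}) (hG : Cfsg.IsThreeTranspositionGroup D)
    (hprim : Cfsg.IsPrimitiveUnderConj D) (h23 : Cfsg.IsOfTypeM23 G D) : ModelIso G D := by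
  classical
  have h := good_m23_top hG hprim h23
  have hat := atMember hM22 h h23
  obtain ⟨F, hFD, hcox, hab, hextra⟩ := exists_nodes hM22 h h23
  set N := Subgroup.closure (Set.range F) with hN
  let ψ : Fi23.Gen → ↥N := fun a => ⟨F a, Subgroup.subset_closure ⟨a, rfl⟩⟩
  have hlift : ∀ r, ((FreeGroup.lift ψ r : ↥N) : G) = FreeGroup.lift F r := fun r => by
    show (N.subtype.comp (FreeGroup.lift ψ)) r = _
    congr 1
    exact FreeGroup.ext_hom _ _ fun a => by simp [ψ]
  have hrel : ∀ r ∈ coxRelators Fi23.edges ∪ {r | r ∈ Fi23.extra},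
      FreeGroup.lift (fun a => (QuotientGroup.mk (ψ a) : ↥N ⧸ Subgroup.center ↥N)) r = 1 := by
    intro r hr
    rw [show FreeGroup.lift (fun a => (QuotientGroup.mk (ψ a) : ↥N ⧸ Subgroup.center ↥N)) r =
      ((QuotientGroup.mk' (Subgroup.center ↥N)).comp (FreeGroup.lift ψ)) r by
        congr 1; exact FreeGroup.ext_hom _ _ fun a => by simp]
    rw [MonoidHom.comp_apply, QuotientGroup.mk'_apply, QuotientGroup.eq_one_iff, Subgroup.mem_center_iff]
    intro k
    refine Subtype.ext ?_
    obtain ⟨k, hk⟩ := k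
    show k * ((FreeGroup.lift ψ r : ↥N) : G) = ((FreeGroup.lift ψ r : ↥N) : G) * k
    rw [hlift]
    have hgen : ∀ a, Commute (FreeGroup.lift F r) (F a) := by
      rcases hr with hr | hr
      · obtain ⟨p, -, q, -, rfl⟩ := hr
        intro a
        rw [map_pow, map_mul, FreeGroup.lift_apply_of, FreeGroup.lift_apply_of, hcox]
        exact Commute.one_left _
      · exact hextra r hr
    have : Commute (FreeGroup.lift F r) k := by
      induction hk using Subgroup.closure_induction with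
      | mem z hz => obtain ⟨a, rfl⟩ := hz; exact hgen a
      | one => exact Commute.one_right _
      | mul _ _ _ _ e1 e2 => exact e1.mul_right e2
      | inv _ _ e1 => exact e1.inv_right
    exact this.symm.eq
  let φ : Fi23 →* ↥N ⧸ Subgroup.center ↥N := PresentedGroup.toGroup hrel
  have hφof : ∀ a, φ (PresentedGroup.of a) = QuotientGroup.mk (ψ a) := fun a =>
    PresentedGroup.toGroup.of hrel
  have hsurj : Function.Surjective φ := by
    rw [← MonoidHom.range_eq_top, eq_top_iff]
    rintro q -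
    obtain ⟨⟨k, hk⟩, rfl⟩ := QuotientGroup.mk_surjective q
    induction hk using Subgroup.closure_induction with
    | mem z hz => obtain ⟨a, rfl⟩ := hz; exact ⟨_, hφof a⟩
    | one => exact one_mem φ.range
    | mul z w hz hw e1 e2 => exact (mul_mem e1 e2 : _ ∈ φ.range)
    | inv z hz e1 => exact (inv_mem e1 : _ ∈ φ.range)
  have hinj : Function.Injective φ := by
    haveI := CosetCert.Fi23P.finite
    haveI := CosetCert.Fi23P.isSimple
    rw [← MonoidHom.ker_eq_bot_iff]
    refine (φ.normal_ker.eq_bot_or_eq_top).resolve_right fun hk => hab ?_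
    have h1 : φ (PresentedGroup.of .a) = 1 := MonoidHom.mem_ker.1 (hk ▸ Subgroup.mem_top _)
    rw [hφof, QuotientGroup.eq_one_iff, Subgroup.mem_center_iff] at h1
    exact (congrArg Subtype.val (h1 (ψ .b))).symm
  set a₀ : Fi23 := PresentedGroup.of Fi23.Gen.a with ha₀
  have ha₀mem : a₀ ∈ classTr := by
    have e := CosetCert.Fi23P.Two.gen_eq_dp 0 (by norm_num)
    have e0 : CosetCert.Fi23P.coding.gen 0 = a₀ := CosetCert.Fi23P.coding.gen_code Fi23.Gen.a
    rw [e0] at e
    rw [e, ThreeTransp.TypeTwentyFour.Model.class_eq]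
    exact ⟨_, rfl⟩
  have hmodel : ModelIso Fi23 classTr := ⟨MulEquiv.refl _, by simp⟩
  have hclass : ∀ p ∈ classTr, ∃ g : Fi23, g * a₀ * g⁻¹ = p := fun p hp =>
    isConj_iff.1 (ha₀mem.symm.trans hp)
  have hlifts : ∀ p ∈ classTr, ∃ (x : G) (hx : x ∈ N), x ∈ D ∧ φ p = QuotientGroup.mk (⟨x, hx⟩ : ↥N) ∧
      ∃ n ∈ N, x = n * F .a * n⁻¹ := by
    intro p hp
    obtain ⟨g, rfl⟩ := hclass p hp
    obtain ⟨k, hk⟩ := QuotientGroup.mk_surjective (φ g)
    refine ⟨k * F .a * (k : G)⁻¹, mul_mem (mul_mem k.2 (Subgroup.subset_closure ⟨_, rfl⟩)) (inv_mem k.2),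
      h.grp.2.1 _ _ (hFD _), ?_, k, k.2, rfl⟩
    rw [map_mul, map_mul, map_inv, ← hk, ha₀, hφof, ← QuotientGroup.mk_mul, ← QuotientGroup.mk_inv,
      ← QuotientGroup.mk_mul]
    rfl
  have hcomm : ∀ x y (hx : x ∈ N) (hy : y ∈ N), x ∈ D → y ∈ D →
      Commute (QuotientGroup.mk (⟨x, hx⟩ : ↥N) : ↥N ⧸ Subgroup.center ↥N)
        (QuotientGroup.mk (⟨y, hy⟩ : ↥N)) → Commute x y := by
    intro x y hx hy hxD hyD hc
    rcases h.grp.1.2 x hxD y hyD with h2 | h3
    · exact (Basic.commute_iff (sq h.grp hxD) (sq h.grp hyD)).2 h2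
    have h4 : ((⟨x, hx⟩ : ↥N) * ⟨y, hy⟩) ^ 2 ∈ Subgroup.center ↥N := by
      rw [← QuotientGroup.eq_one_iff, QuotientGroup.mk_pow, QuotientGroup.mk_mul, hc.mul_pow,
        ← QuotientGroup.mk_pow, ← QuotientGroup.mk_pow,
        show (⟨x, hx⟩ : ↥N) ^ 2 = 1 from Subtype.ext (by simp [pow_two, sq h.grp hxD]),
        show (⟨y, hy⟩ : ↥N) ^ 2 = 1 from Subtype.ext (by simp [pow_two, sq h.grp hyD])]
      simp
    have h5 : Commute ((x * y) ^ 2) x :=
      (congrArg Subtype.val (Subgroup.mem_center_iff.1 h4 ⟨x, hx⟩)).symm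
    have e : (x * y) ^ 2 = (x * y)⁻¹ := eq_inv_of_mul_eq_one_left (by rwa [← pow_succ])
    rw [e] at h5
    have h6 := h5.inv_left
    rw [inv_inv] at h6
    have h7 := h6.eq
    rw [mul_assoc] at h7
    exact (mul_left_cancel h7).symm
  set E : Set G := {x | x ∈ D ∧ ∃ n ∈ N, x = n * F .a * n⁻¹} with hE
  have hclosed : ∀ x ∈ E, Nb D x ⊆ E := by
    intro x hx
    obtain ⟨hxD, n, hn, hxe⟩ := hx
    have hxN : x ∈ N := hxe ▸ mul_mem (mul_mem hn (Subgroup.subset_closure ⟨_, rfl⟩)) (inv_mem hn)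
    obtain ⟨p, hp⟩ := hsurj (QuotientGroup.mk (⟨x, hxN⟩ : ↥N))
    have hpc : p ∈ classTr := by
      obtain ⟨g, hg⟩ := hsurj (QuotientGroup.mk (⟨n, hn⟩ : ↥N))
      have : p = g * a₀ * g⁻¹ := hinj (by
        rw [hp, map_mul, map_mul, map_inv, hg, ha₀, hφof, ← QuotientGroup.mk_mul,
          ← QuotientGroup.mk_inv, ← QuotientGroup.mk_mul]
        exact congrArg QuotientGroup.mk (Subtype.ext hxe))
      rw [this]
      exact classTr_conj ha₀mem
    choose! lift hliftN hliftD hliftφ hliftE using hlifts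
    have hsub : lift '' Nb classTr p ⊆ Nb D x ∩ E := by
      rintro _ ⟨q, ⟨hq, hqne, hqc⟩, rfl⟩
      have hne : lift q ≠ x := fun e => hqne (hinj (by
        rw [hliftφ q hq, hp]
        exact congrArg QuotientGroup.mk (Subtype.ext e)))
      refine ⟨⟨hliftD q hq, hne, hcomm x (lift q) hxN (hliftN q hq) hxD (hliftD q hq) ?_⟩,
        hliftD q hq, hliftE q hq⟩
      rw [← hp, ← hliftφ q hq]
      exact hqc.map φ
    have hcard : (lift '' Nb classTr p).ncard = 3510 := by
      rw [Set.InjOn.ncard_image, ThreeTransp.TypeTwentyFour.Model.card_nb_of hmodel hpc]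
      intro q hq q' hq' e
      exact hinj (by rw [hliftφ q hq.1, hliftφ q' hq'.1]; exact congrArg QuotientGroup.mk (Subtype.ext e))
    have heq : lift '' Nb classTr p = Nb D x :=
      Set.eq_of_subset_of_ncard_le (fun z hz => (hsub hz).1) (by rw [hcard, (hat x hxD).card])
    exact fun z hz => (hsub (heq.symm ▸ hz)).2
  have hall : ∀ x ∈ D, x ∈ E := by
    intro x hx
    have hr := h.conn (F .a) (hFD _) x hx
    clear hx
    induction hr with
    | refl => exact ⟨hFD _, 1, one_mem _, by group⟩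
    | @tail p q _ hpq ih =>
      by_cases e : q = p
      · exact e ▸ ih
      · exact hclosed p ih ⟨hpq.2.1, e, hpq.2.2⟩
  have hNtop : N = ⊤ := by
    rw [eq_top_iff, ← h.grp.2.2, Subgroup.closure_le]
    intro x hx
    obtain ⟨-, n, hn, rfl⟩ := hall x hx
    exact mul_mem (mul_mem hn (Subgroup.subset_closure ⟨_, rfl⟩)) (inv_mem hn)
  have hcent : Subgroup.center ↥N = ⊥ := by
    refine (Subgroup.eq_bot_iff_forall _).2 fun z hz => Subtype.ext ?_
    have : (z : G) ∈ Subgroup.center G := Subgroup.mem_center_iff.2 fun g => by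
      exact congrArg Subtype.val (Subgroup.mem_center_iff.1 hz ⟨g, hNtop ▸ Subgroup.mem_top g⟩)
    rw [h.centre] at this
    exact this
  let φe : Fi23 ≃* ↥N :=
    (MulEquiv.ofBijective φ ⟨hinj, hsurj⟩).trans
      ((QuotientGroup.quotientMulEquivOfEq hcent).trans QuotientGroup.quotientBot)
  have hφe : ∀ a, φe (PresentedGroup.of a) = ψ a := fun a => by
    show QuotientGroup.quotientBot
      ((QuotientGroup.quotientMulEquivOfEq hcent) (φ (PresentedGroup.of a))) = ψ a
    rw [hφof, QuotientGroup.quotientMulEquivOfEq_mk]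
    rfl
  let eG : G ≃* Fi23 :=
    (Subgroup.topEquiv.symm.trans (MulEquiv.subgroupCongr hNtop.symm)).trans φe.symm
  have heG : eG (F .a) = a₀ := by
    show φe.symm _ = _
    rw [MulEquiv.symm_apply_eq, ha₀, hφe]
    rfl
  refine ⟨eG, Set.Subset.antisymm ?_ fun p hp => ?_⟩
  · rintro _ ⟨x, hx, rfl⟩
    obtain ⟨-, n, -, rfl⟩ := hall x hx
    rw [map_mul, map_mul, map_inv, heG]
    exact classTr_conj ha₀mem
  · obtain ⟨g, rfl⟩ := hclass p hp
    exact ⟨eG.symm g * F .a * (eG.symm g)⁻¹, h.grp.2.1 _ _ (hFD _), by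
      rw [map_mul, map_mul, map_inv, heG, MulEquiv.apply_symm_apply]⟩

end CfsgLib.Sporadic.FiTransfer23.Transfer
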