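import Cfsg.Agent.Lib.Sporadic.FiTransfer.Transfer
import Cfsg.Agent.Lib.Sporadic.FiTransfer23.Transfer

/-!
# Groups of type M(23) are the presented Fi23
-/

set_option autoImplicit false

universe u

namespace CfsgLib.Sporadic.FiTransfer23

/-- A group of type M(23) is the presented Fi23 with its class of transpositions. -/
theorem modelIso {G : Type u} [Group G] [Finite G] {D : Set G} (hG : Cfsg.IsThreeTranspositionGroup D)
    (hprim : Cfsg.IsPrimitiveUnderConj D) (h23 : Cfsg.IsOfTypeM23 G D) : ModelIso G D :=
  Transfer.modelIso_of (fun _ _ _ _ hD hp ht => FiTransfer.modelIso hD hp ht) hG hprim h23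

end CfsgLib.Sporadic.FiTransfer23
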