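import Cfsg.Agent.Lib.ThreeTransp.ReflThree
import Cfsg.Agent.S1686

/-!
# The reflection group in dimension seven over the field with three elements, modulo its centre

For norm −1 and discriminant 1 it is the simple group PΩ(7, 3).
-/

set_option autoImplicit false
set_option maxRecDepth 100000

open QuadraticMap CfsgLib.Orth CfsgLib.Classical CfsgLib.ThreeTransp.ReflThree CfsgLib.ThreeTransp.OmegaSeven

namespace CfsgLib.Sporadic.FiTransfer23.ReflSeven

abbrev V : Type := Fin 7 → ZMod 3

/-- The renaming of the coordinates. -/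
def ce : Fin 7 ≃ Unit ⊕ (Fin 3 ⊕ Fin 3) := ⟨co, coInv, coInv_co, co_coInv⟩

/-- The renaming of the vectors. -/
noncomputable def ve : V ≃ₗ[ZMod 3] W7 := LinearEquiv.funCongrLeft (ZMod 3) (ZMod 3) ce.symm

/-- The form in seven coordinates. -/
noncomputable def QS : QuadraticForm (ZMod 3) V := Q7.comp ve.toLinearMap

/-- The form, computably. -/
def qf (v : V) : ZMod 3 := v 0 * v 0 + v 1 * v 4 + v 2 * v 5 + v 3 * v 6

theorem QS_apply (v : V) : QS v = qf v := by
  show Q7 (ve v) = _
  rw [← oddForm_apply, Cfsg.quadFormOdd, Fin.sum_univ_three, qf, pow_two]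
  simp only [ve, LinearEquiv.funCongrLeft_apply, LinearMap.funLeft_apply, ce, Equiv.coe_fn_symm_mk, coInv]
  simp [add_assoc]

theorem polar_QS (v w : V) : polar QS v w = qf (v + w) - qf v - qf w := by
  simp only [polar, QS_apply]

theorem QS_nondegenerate : (polarBilin QS).Nondegenerate := by
  refine nondegenerate_of_left fun v hv => ?_
  have h : ∀ y : W7, polar Q7 (ve v) y = 0 := fun y => by
    have := hv (ve.symm y)
    simpa [QS, polar, map_add] using this
  have := (oddForm_nondeg (F := ZMod 3) 3 (by decide)).1 (ve v) h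
  exact ve.injective (this.trans (map_zero _).symm)

/-- The pairing of the coordinates. -/
def flip7 : Equiv.Perm (Fin 7) := Equiv.swap 1 4 * Equiv.swap 2 5 * Equiv.swap 3 6

theorem polarGramDet_QS : Cfsg.polarGramDet (⇑QS) = 1 := by
  rw [Cfsg.polarGramDet, show (Matrix.of fun i j : Fin 7 =>
      QuadraticMap.polar (⇑QS) (Pi.single i 1) (Pi.single j 1)) =
      (Matrix.diagonal fun i : Fin 7 => if i = 0 then (2 : ZMod 3) else 1).submatrix flip7 id by
    ext i j
    rw [Matrix.of_apply, polar_QS, Matrix.submatrix_apply, Matrix.diagonal_apply, id]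
    revert i j
    decide +kernel]
  rw [Matrix.det_permute, Matrix.det_diagonal, show Equiv.Perm.sign flip7 = -1 by decide +kernel]
  decide +kernel

/-- An orthogonal basis of vectors of norm −1. -/
def basisM : Fin 7 → V :=
  ![![1, 1, 0, 0, 1, 0, 0], ![1, 2, 0, 0, 2, 0, 0], ![0, 0, 1, 1, 0, 1, 1], ![0, 0, 1, 2, 0, 1, 2],
    ![0, 1, 0, 0, 2, 0, 0], ![0, 0, 1, 0, 0, 2, 0], ![0, 0, 0, 1, 0, 0, 2]]

theorem basisM_norm : ∀ i, QS (basisM i) = -1 := by
  intro i
  rw [QS_apply]
  revert i
  decide +kernel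

theorem basisM_orth : ∀ i j, i ≠ j → polar QS (basisM i) (basisM j) = 0 := by
  intro i j
  rw [polar_QS]
  revert i j
  decide +kernel

theorem basisM_span (i : Fin 7) : (Pi.single i 1 : V) =
    ∑ j, (qf (Pi.single i 1 + basisM j) - qf (Pi.single i 1) - qf (basisM j)) • basisM j := by
  revert i
  decide +kernel

theorem prod_eq_negEl (Q : QuadraticForm (ZMod 3) V) (b : Fin 7 → V) (hb : ∀ i, Q (b i) ≠ 0)
    (ho : ∀ i j, i ≠ j → polar Q (b i) (b j) = 0)
    (hs : ∀ i : Fin 7, ∃ co : Fin 7 → ZMod 3, (Pi.single i 1 : V) = ∑ j, co j • b j)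
    (l : List (Fin 7)) (hl : l.Nodup) (hm : ∀ j, j ∈ l) :
    ((l.map b).map (refl Q)).prod = negEl Q := by
  refine Subtype.ext (LinearEquiv.toLinearMap_injective ((Pi.basisFun (ZMod 3) (Fin 7)).ext fun i => ?_))
  obtain ⟨co, hco⟩ := hs i
  rw [Pi.basisFun_apply, hco, map_sum, map_sum]
  refine Finset.sum_congr rfl fun j _ => ?_
  rw [map_smul, map_smul, LinearEquiv.coe_coe, LinearEquiv.coe_coe, prod_refl_basis b hb ho l hl j,
    if_pos (hm j), negEl_apply, neg_one_smul]

theorem negEl_mem : negEl QS ∈ R0 QS (-1) := by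
  rw [← prod_eq_negEl QS basisM (fun i => by rw [basisM_norm]; decide) basisM_orth
    (fun i => ⟨_, basisM_span i⟩) (List.finRange 7) (List.nodup_finRange 7) List.mem_finRange]
  refine Subgroup.list_prod_mem _ fun x hx => ?_
  rw [List.mem_map] at hx
  obtain ⟨v, hv, rfl⟩ := hx
  rw [List.mem_map] at hv
  obtain ⟨j, -, rfl⟩ := hv
  exact refl_mem (basisM_norm j)

/-- Two hyperbolic pairs. -/
noncomputable def pairsS : HypPairs QS where
  e₀ := ![0, 1, 0, 0, 0, 0, 0]
  f₀ := ![0, 0, 0, 0, 1, 0, 0]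
  e₁ := ![0, 0, 1, 0, 0, 0, 0]
  f₁ := ![0, 0, 0, 0, 0, 1, 0]
  he₀ := by rw [QS_apply]; decide
  hf₀ := by rw [QS_apply]; decide
  he₁ := by rw [QS_apply]; decide
  hf₁ := by rw [QS_apply]; decide
  h00 := by rw [polar_QS]; decide
  h11 := by rw [polar_QS]; decide
  hee := by rw [polar_QS]; decide
  hef := by rw [polar_QS]; decide
  hfe := by rw [polar_QS]; decide
  hff := by rw [polar_QS]; decide

theorem finrank_V : Module.finrank (ZMod 3) V = 7 := by simp

theorem negEl_not_mem : negEl QS ∉ commutator (orthGroup QS) := by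
  intro h
  have hd := ((mem_commutator_odd QS_nondegenerate (by decide) (negEl QS)).1 h).1
  rw [show ((negEl QS).1 : V →ₗ[ZMod 3] V) = (-1 : ZMod 3) • LinearMap.id from
      LinearMap.ext fun v => (neg_one_smul (ZMod 3) v).symm,
    LinearMap.det_smul, LinearMap.det_id, mul_one, finrank_V] at hd
  revert hd
  decide

theorem commutator_le : commutator (orthGroup QS) ≤ R0 QS (-1) := by
  have hi := index_eq_two (Q := QS) (c := (-1 : ZMod 3)) QS_nondegenerate (by norm_num) (by decide)
  rw [commutator_def, Subgroup.commutator_le]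
  intro g _ h _
  rw [commutatorElement_def, Subgroup.mul_mem_iff_of_index_two hi, Subgroup.mul_mem_iff_of_index_two hi,
    Subgroup.mul_mem_iff_of_index_two hi, inv_mem_iff, inv_mem_iff]
  tauto

theorem center_cases {z : R0 QS (-1)} (hz : z ∈ Subgroup.center (R0 QS (-1))) :
    z.1 = 1 ∨ z.1 = negEl QS :=
  eq_one_or_negEl_of_commute QS_nondegenerate (by decide) pairsS z.1 fun c hc =>
    (congrArg Subtype.val (Subgroup.mem_center_iff.1 hz ⟨c, commutator_le hc⟩)).symm

/-- The reflection group modulo its centre is the commutator subgroup. -/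
theorem quotient_iso :
    Nonempty (↥(commutator (orthGroup QS)) ≃* R0 QS (-1) ⧸ Subgroup.center (R0 QS (-1))) := by
  have : Nontrivial V := ⟨0, Pi.single 0 1, by decide⟩
  let f : ↥(commutator (orthGroup QS)) →* R0 QS (-1) ⧸ Subgroup.center (R0 QS (-1)) :=
    (QuotientGroup.mk' _).comp (Subgroup.inclusion commutator_le)
  have hinj : Function.Injective f := by
    rw [injective_iff_map_eq_one]
    intro z hz
    rcases center_cases ((QuotientGroup.eq_one_iff _).1 hz) with h | h
    · exact Subtype.ext h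
    · exact absurd (show (z : orthGroup QS) = negEl QS from h) fun e => negEl_not_mem (e ▸ z.2)
  refine ⟨MulEquiv.ofBijective f ((Nat.bijective_iff_injective_and_card _).2 ⟨hinj, ?_⟩)⟩
  have hZ : Nat.card (Subgroup.center (R0 QS (-1))) = 2 := by
    have hm : (⟨negEl QS, negEl_mem⟩ : R0 QS (-1)) ∈ Subgroup.center (R0 QS (-1)) :=
      Subgroup.mem_center_iff.2 fun g => Subtype.ext (negEl_comm g.1)
    rw [Nat.card_eq_two_iff]
    refine ⟨1, ⟨_, hm⟩, fun h => negEl_ne_one (Q := QS) (by decide) (congrArg (fun x => x.1.1) h).symm,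
      Set.eq_univ_of_forall fun z => ?_⟩
    rcases center_cases z.2 with h | h
    · exact Or.inl (Subtype.ext (Subtype.ext h))
    · exact Or.inr (Subtype.ext (Subtype.ext h))
  have h4 : (commutator (orthGroup QS)).index = 4 :=
    index_commutator_odd QS_nondegenerate (by decide) (by rw [finrank_V]; norm_num)
  have h2 := index_eq_two (Q := QS) (c := (-1 : ZMod 3)) QS_nondegenerate (by norm_num) (by decide)
  have e1 := (commutator (orthGroup QS)).card_mul_index
  have e2 := (R0 QS (-1)).card_mul_index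
  have e3 := Subgroup.card_eq_card_quotient_mul_card_subgroup (Subgroup.center (R0 QS (-1)))
  rw [h4] at e1
  rw [h2, e3, hZ, mul_assoc] at e2
  exact Nat.eq_of_mul_eq_mul_right (by norm_num : 0 < 4) (e1.trans e2.symm)

/-- A group isomorphic to PΩ(7, 3) is the projective reflection group for norm −1 and discriminant 1. -/
theorem isProjReflection {X : Type*} [Group X]
    (h : Nonempty (X ≃* Cfsg.POmega (ZMod 3) (Cfsg.quadFormOdd 3 (ZMod 3)))) :
    Cfsg.IsProjReflectionGroupModThree X 7 1 (-1) := by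
  obtain ⟨φ⟩ := h
  obtain ⟨f⟩ := quotient_iso
  obtain ⟨ω⟩ := Cfsg.Agent.S1686.center_free
  let oc : orthGroup QS ≃* orthGroup Q7 := orthGroupCongr ve fun _ => rfl
  have hoc : (commutator (orthGroup QS)).map oc.toMonoidHom = commutator (orthGroup Q7) := by
    rw [map_commutator_eq, MonoidHom.range_eq_top.2 oc.surjective, commutator_def]
  let cc : ↥(commutator (orthGroup QS)) ≃* ↥(commutator (orthGroup Q7)) :=
    (oc.subgroupMap _).trans (MulEquiv.subgroupCongr hoc)
  let e2 : R0 QS (-1) ≃* Cfsg.reflectionSubgroup (⇑QS) (-1) :=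
    ((MulEquiv.subgroupCongr (reflectionSubgroup_eq QS (-1))).trans
      ((toOrth QS (fun _ => rfl)).subgroupMap _ |>.trans
        (MulEquiv.subgroupCongr (Subgroup.map_comap_eq_self_of_surjective
          (toOrth QS (fun _ => rfl)).surjective _)))).symm
  refine ⟨QS, QS_nondegenerate, polarGramDet_QS,
    ⟨φ.trans (ω.symm.trans (cc.symm.trans (f.trans (QuotientGroup.congr _ _ e2 ?_))))⟩⟩
  ext y
  show y ∈ Subgroup.map e2.toMonoidHom _ ↔ _
  rw [Subgroup.mem_map_equiv, Subgroup.mem_center_iff, Subgroup.mem_center_iff]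
  constructor
  · intro hy g
    simpa using congrArg e2 (hy (e2.symm g))
  · intro hy g
    apply e2.injective
    simpa using hy (e2 g)

end CfsgLib.Sporadic.FiTransfer23.ReflSeven
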