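import Cfsg.Agent.Lib.Sporadic.FiTransfer23.Width
import Cfsg.Agent.Lib.Sporadic.FiTransfer23.ReflSeven
import Cfsg.Agent.Lib.Sporadic.FiTransfer.Local23.Seven
import Cfsg.Agent.Lib.Sporadic.FiTransfer.Instance
import Cfsg.Agent.Lib.Sporadic.FiTransfer.InstanceCongr

/-!
# The presented group Fi23 with its transpositions is a group of type M(23)

The model instance of the three hypotheses of the statements on groups of type M(23).
-/

set_option autoImplicit false
set_option maxRecDepth 100000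

open Cfsg.Spor

namespace CfsgLib.Sporadic.FiTransfer23.Instance

open CosetCert CosetCert.Fi23P FischerTransitivity
open Fi23Data (table forestH)
open Two (dp conj_dp gpt gpt_val gen_eq_dp)
open OutFi (dp_injective)

attribute [local irreducible] PTab.img Forest.cls

theorem tr_mem_class : tr ∈ classTr := mem_conjugatesOf_self

theorem d0_mem : FiTransfer.Local23.Seven.d0 ∈ classTr := by
  rw [ThreeTransp.TypeTwentyFour.Model.class_eq]
  exact ⟨_, rfl⟩

theorem a0_eq : FiTransfer.Local23.Seven.a0 = tr := ThreeTransp.TypeTwentyFour.Model.tr_eq_dp.symm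

theorem not_commute : ¬ Commute tr FiTransfer.Local23.Seven.d0 := by
  intro h
  rw [← a0_eq] at h
  have h2 : hom FiTransfer.Local23.Seven.a0 FiTransfer.Local23.Seven.p8 = FiTransfer.Local23.Seven.p8 :=
    FiTransfer.Local23.commute_dp_iff.1 h
  exact FiTransfer.Local23.Seven.p1_ne_p8 (FiTransfer.Local23.Seven.a0_p8.symm.trans h2)

theorem closure_classTr : Subgroup.closure classTr = ⊤ := by
  have := Fi23P.isSimple
  have heq : Subgroup.closure classTr = Subgroup.normalClosure {tr} := by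
    simp [classTr, Subgroup.normalClosure, Group.conjugatesOfSet]
  have hn : (Subgroup.closure classTr).Normal := heq ▸ Subgroup.normalClosure_normal
  refine hn.eq_bot_or_eq_top.resolve_left fun h => tr_ne_one ?_
  rw [← Subgroup.mem_bot, ← h]
  exact Subgroup.subset_closure tr_mem_class

theorem center_bot : Subgroup.center Fi23 = ⊥ := by
  have := Fi23P.isSimple
  refine ((inferInstance : (Subgroup.center Fi23).Normal).eq_bot_or_eq_top).resolve_right fun h => ?_
  exact not_commute (Subgroup.mem_center_iff.1 (h ▸ Subgroup.mem_top FiTransfer.Local23.Seven.d0) _)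

theorem isThreeTranspositionGroup : Cfsg.IsThreeTranspositionGroup classTr :=
  ⟨isThreeTranspositionSet, fun _ _ hd => classTr_conj hd, closure_classTr⟩

theorem conjugate {a b : Fi23} (ha : a ∈ classTr) (hb : b ∈ classTr) :
    ∃ g : Fi23, g * a * g⁻¹ = b :=
  isConj_iff.1 (IsConj.trans (IsConj.symm ha) hb)

theorem isPrimitive : Cfsg.IsPrimitiveUnderConj classTr := by
  have := Fi23P.finite
  have := Fi23P.isSimple
  refine FischerPrimitive.primitive isThreeTranspositionGroup (fun a ha b hb => conjugate ha hb)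
    ⟨_, tr_mem_class, _, d0_mem, fun e => not_commute (e ▸ Commute.refl _)⟩ ?_ ?_
  · have h : commutator Fi23 = ⊤ := by
      refine ((inferInstance : (commutator Fi23).Normal).eq_bot_or_eq_top).resolve_left fun h => ?_
      refine not_commute ?_
      rw [commute_iff_eq, ← commutatorElement_eq_one_iff_mul_comm, ← Subgroup.mem_bot, ← h]
      exact Subgroup.commutator_mem_commutator (Subgroup.mem_top _) (Subgroup.mem_top _)
    rw [h, ← commutator_def, h]
  · intro N hN hs _
    rw [center_bot]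
    refine (hN.eq_bot_or_eq_top.resolve_right fun h => ?_).le
    subst h
    have hsol : Group.IsSolvable Fi23 := Group.isSolvable_of_surjective
      (f := (Subgroup.topEquiv (G := Fi23)).toMonoidHom) (MulEquiv.surjective _)
    exact not_commute ((IsSimpleGroup.comm_iff_isSolvable.2 hsol) _ _)

/-! ### The centraliser of a transposition modulo its centre -/

theorem nb_closure : Subgroup.closure (Nb classTr tr) = sub lH :=
  ThreeTransp.TypeTwentyFour.Model.closure_nb.trans centralizer_tr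

theorem toFi22_gen (y : Fi22.Gen) (h : (PresentedGroup.of (incl y) : Fi23) ∈ sub lH) :
    toFi22 ⟨PresentedGroup.of (incl y), h⟩ = PresentedGroup.of y := by
  apply ρ_injective
  rw [show ρ (PresentedGroup.of y : Fi22) = restrict (gP y) from PresentedGroup.toGroup.of restrict_rel]
  unfold toFi22
  simp only [MonoidHom.coe_comp, MulEquiv.coe_toMonoidHom, Function.comp_apply,
    MonoidHom.apply_ofInjective_symm]
  rfl

/-- The neighbour mapped to the chosen transposition of Fi22. -/
theorem gen_zero_spec : ∃ y, ∃ h : y ∈ sub lH, y ∈ Nb classTr tr ∧ toFi22 ⟨y, h⟩ = FiP.tr := by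
  have hm : (PresentedGroup.of (incl Fi22.Gen.a) : Fi23) ∈ sub lH :=
    Subgroup.subset_closure ⟨coding.code (incl Fi22.Gen.a), code_incl Fi22.Gen.a, coding.gen_code _⟩
  have hcls : (PresentedGroup.of (incl Fi22.Gen.a) : Fi23) ∈ classTr := by
    rw [← coding.gen_code (incl Fi22.Gen.a), ThreeTransp.TypeTwentyFour.Model.class_eq]
    exact ⟨_, (gen_eq_dp _ (show coding.code (incl Fi22.Gen.a) < 10 by decide)).symm⟩
  have himg : toFi22 ⟨_, hm⟩ = FiP.tr := toFi22_gen Fi22.Gen.a hm
  refine ⟨_, hm, ⟨hcls, fun e => FiP.tr_ne_one ?_, (tr_comm hm).symm⟩, himg⟩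
  rw [← himg, ← MonoidHom.mem_ker]
  rw [show (⟨_, hm⟩ : sub lH) = ⟨tr, tr_mem⟩ from Subtype.ext e]
  exact tr_mem_ker

theorem nb_conjugate {y y' : Fi23} (hy : y ∈ Nb classTr tr) (hy' : y' ∈ Nb classTr tr) :
    ∃ k ∈ sub lH, k * y' * k⁻¹ = y := by
  rw [ThreeTransp.TypeTwentyFour.Model.nb_eq] at hy hy'
  obtain ⟨u, hu, rfl⟩ := hy
  obtain ⟨v, hv, rfl⟩ := hy'
  rw [Finset.mem_coe, Forest.mem_classSet] at hu hv
  obtain ⟨k, hk, hkv⟩ := exists_sub_of_class (u := u) (v := v) (hu.trans hv.symm)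
  exact ⟨k, hk, by rw [conj_dp, hkv]⟩

theorem image_nb : toFi22 '' {x : sub lH | (x : Fi23) ∈ Nb classTr tr} = FiTransfer.classTr := by
  obtain ⟨y₀, hy₀, hnb, himg⟩ := gen_zero_spec
  ext z
  constructor
  · rintro ⟨⟨y, hym⟩, hy, rfl⟩
    obtain ⟨k, hk, hky⟩ := nb_conjugate hy hnb
    have e : (⟨y, hym⟩ : sub lH) = ⟨k, hk⟩ * ⟨y₀, hy₀⟩ * ⟨k, hk⟩⁻¹ := Subtype.ext hky.symm
    rw [e, map_mul, map_mul, map_inv, himg]
    exact FiTransfer.classTr_conj FiTransfer.mem_classTr_self
  · intro hz
    obtain ⟨g, rfl⟩ := isConj_iff.1 hz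
    obtain ⟨k, rfl⟩ := toFi22_surjective g
    refine ⟨k * ⟨y₀, hy₀⟩ * k⁻¹, ?_, by rw [map_mul, map_mul, map_inv, himg]⟩
    have hk : (k : Fi23) * tr * (k : Fi23)⁻¹ = tr := by rw [tr_comm k.2, mul_inv_cancel_right]
    refine ⟨classTr_conj hnb.1, fun e => hnb.2.1 ?_, ?_⟩
    · apply (MulAut.conj (k : Fi23)).injective
      exact e.trans hk.symm
    · rw [← hk]; exact (Commute.conj_iff _).2 hnb.2.2

theorem quotient_m22 (S : Set Fi23) (hS : S = Nb classTr tr) :
    Cfsg.IsOfTypeM22 (↥(Subgroup.closure S) ⧸ Subgroup.center ↥(Subgroup.closure S))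
      ((QuotientGroup.mk : ↥(Subgroup.closure S) → _) '' {x : ↥(Subgroup.closure S) | (x : Fi23) ∈ S}) := by
  subst hS
  let c : ↥(Subgroup.closure (Nb classTr tr)) ≃* ↥(sub lH) := MulEquiv.subgroupCongr nb_closure
  let q : ↥(sub lH) ⧸ Subgroup.center ↥(sub lH) ≃* Fi22 :=
    (QuotientGroup.quotientMulEquivOfEq center_eq).trans
      (QuotientGroup.quotientKerEquivOfSurjective toFi22 toFi22_surjective)
  let E := (FiTransfer.InstanceCongr.centreQuot c).trans q
  refine FiTransfer.InstanceCongr.isOfTypeM22_congr E.symm ?_ FiTransfer.Instance.isOfTypeM22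
  have hE : ∀ x, E (QuotientGroup.mk x) = toFi22 (c x) := fun x => rfl
  rw [← image_nb, Set.image_image]
  ext z
  constructor
  · rintro ⟨x, hx, rfl⟩
    refine ⟨c.symm x, hx, ?_⟩
    rw [eq_comm, MulEquiv.symm_apply_eq, hE, c.apply_symm_apply]
  · rintro ⟨x, hx, rfl⟩
    exact ⟨c x, hx, by rw [MulEquiv.symm_apply_eq, hE]⟩

/-! ### The pair -/

theorem common_eq : Subgroup.closure ({y : Fi23 | y ∈ classTr ∧ y ≠ tr ∧ Commute tr y} ∩
    {y : Fi23 | y ∈ classTr ∧ y ≠ FiTransfer.Local23.Seven.d0 ∧ Commute FiTransfer.Local23.Seven.d0 y}) =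
      FiTransfer.Local23.Seven.K0 := by
  rw [FiTransfer.Local23.Seven.K0_eq_set, a0_eq]
  congr 1
  ext y
  simp only [Set.mem_inter_iff, Set.mem_ofPred_eq]
  tauto

theorem center_K0 : Subgroup.center ↥FiTransfer.Local23.Seven.K0 = ⊥ := by
  obtain ⟨e⟩ := FiTransfer.Local23.Seven.K0_iso
  have hs := Cfsg.Agent.S0295.result (F := ZMod 3) (by decide) 3 le_rfl
  have : Nontrivial ↥FiTransfer.Local23.Seven.K0 := e.toEquiv.nontrivial
  have : IsSimpleGroup ↥FiTransfer.Local23.Seven.K0 :=
    IsSimpleGroup.isSimpleGroup_of_surjective e.symm.toMonoidHom e.symm.surjective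
  refine ((inferInstance :
    (Subgroup.center ↥FiTransfer.Local23.Seven.K0).Normal).eq_bot_or_eq_top).resolve_right fun h => ?_
  let : CommGroup ↥FiTransfer.Local23.Seven.K0 :=
    { (inferInstance : Group ↥FiTransfer.Local23.Seven.K0) with
      mul_comm := fun x y => Subgroup.mem_center_iff.1
        (show y ∈ Subgroup.center ↥FiTransfer.Local23.Seven.K0 from h ▸ Subgroup.mem_top y) x }
  have hp : (Nat.card ↥FiTransfer.Local23.Seven.K0).Prime := IsSimpleGroup.prime_card
  rw [FiTransfer.Local23.Seven.card_K0] at hp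
  norm_num at hp

/-- The model of type M(23). -/
theorem isOfTypeM23 : Cfsg.IsOfTypeM23 Fi23 classTr := by
  refine ⟨center_bot, tr, tr_mem_class, FiTransfer.Local23.Seven.d0, d0_mem, not_commute, ?_,
    -1, by decide, ?_⟩
  · exact quotient_m22 _ rfl
  · rw [neg_neg]
    exact FiTransfer.Instance.proj_quotient common_eq center_K0
      (ReflSeven.isProjReflection FiTransfer.Local23.Seven.K0_iso)

end CfsgLib.Sporadic.FiTransfer23.Instance
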