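import Cfsg.Agent.Lib.Sporadic.FiTransfer23.FrameChecks
import Cfsg.Agent.Lib.Sporadic.Fi23SylowTwo.Series
import Cfsg.Agent.Lib.ThreeTransp.TypeTwentyFour.Model
import Cfsg.Agent.Lib.ThreeTransp.SylowWidth

/-!
# The width of the class of transpositions of Fi23

The twenty-three transpositions of the frame commute in pairs and no other transposition commutes
with all of them, so they are the transpositions of a Sylow 2-subgroup, whose number is the width.
-/

set_option autoImplicit false
set_option maxRecDepth 100000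

open Cfsg.Spor

namespace CfsgLib.Sporadic.FiTransfer23

open CosetCert CosetCert.Fi23P
open Fi23Data (table)
open Two (dp dp_eq conj_dp comm_of_fix el el_img)
open OutFi (dp_injective dp_sq dp_ne_one zz_img runL_rows)

attribute [local irreducible] PTab.img Forest.cls

namespace FrameMax

theorem frame_max {u : Fin table.N} (h : ∀ i < 23, hom (Two.d i) u = u) :
    ∃ i < 23, u = Two.fpt i := by
  have e0 : PTab.runL (List.replicate 9 Fi23Data.prodE7) u = u := by
    have h0 := h 0 (by norm_num)
    rw [Two.d_eq (by norm_num), show Two.fpt 0 = pt from Fin.ext (by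
      rw [Two.fpt_val (by norm_num)]; rfl)] at h0
    rw [← zz_img, h0]
  have e1 : ∀ j < 23, PTab.runL (OutFi.rowsOf (Two.frameWord j)) u = u := fun j hj => by
    rw [runL_rows (List.all_eq_true.2 fun x hx => by
        simpa using Two.frameWord_lt hj x hx) u.2, ← el_img (Two.frameWord_lt hj)]
    exact congrArg Fin.val (h j hj)
  have key : ∀ {s n : ℕ}, frameMaxK s n = true → s ≤ u.1 → u.1 < s + n → (u : ℕ) ∈ Two.frame := by
    intro s n hK h1 h2
    have h3 := List.all_eq_true.1 hK (u.1 - s) (List.mem_range.2 (by omega))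
    have hall : ((List.range 23).all fun j =>
        Nat.beq (PTab.runL (OutFi.rowsOf (Two.frameWord j)) u) u) = true :=
      List.all_eq_true.2 fun j hj => Nat.beq_eq.mpr (e1 j (List.mem_range.1 hj))
    rw [show s + (u.1 - s) = u.1 by omega, Nat.beq_eq.mpr e0, hall] at h3
    simpa using h3
  have hN : table.N = 31671 := rfl
  have hu := u.2
  have h4 : (u : ℕ) ∈ Two.frame := by
    rcases lt_or_ge u.1 8000 with h1 | h1
    · exact key max0 (Nat.zero_le _) (by omega)
    rcases lt_or_ge u.1 16000 with h2 | h2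
    · exact key max1 h1 (by omega)
    rcases lt_or_ge u.1 24000 with h3 | h3
    · exact key max2 h2 (by omega)
    exact key max3 h3 (by omega)
  obtain ⟨i, hi, e⟩ := List.mem_iff_getElem.1 h4
  have hi23 : i < 23 := hi
  exact ⟨i, hi23, Fin.ext (by rw [Two.fpt_val hi23, List.getD_eq_getElem _ _ hi, e])⟩

end FrameMax

theorem isThreeTranspositionSet : Cfsg.IsThreeTranspositionSet classTr := by
  have hord : orderOf tr = 2 := orderOf_eq_prime (by rw [pow_two, tr_mul_self]) tr_ne_one
  refine ⟨fun d hd => ?_, fun d hd e he => ?_⟩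
  · obtain ⟨g, rfl⟩ := isConj_iff.1 hd
    rw [show g * tr * g⁻¹ = MulAut.conj g tr from rfl, MulEquiv.orderOf_eq, hord]
  · obtain ⟨g, rfl⟩ := isConj_iff.1 hd
    obtain ⟨g', rfl⟩ := isConj_iff.1 he
    have hcj : ∀ (n : ℕ), (tr * ((g⁻¹ * g') * tr * (g⁻¹ * g')⁻¹)) ^ n = 1 →
        (g * tr * g⁻¹ * (g' * tr * g'⁻¹)) ^ n = 1 := fun n hx => by
      rw [show g * tr * g⁻¹ * (g' * tr * g'⁻¹) =
        g * (tr * ((g⁻¹ * g') * tr * (g⁻¹ * g')⁻¹)) * g⁻¹ by group,
        conj_pow, hx, mul_one, mul_inv_cancel]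
    exact (three_transp _).imp (hcj 2) (hcj 3)

/-- The transpositions of the frame. -/
noncomputable def frameSet : Set Fi23 := Two.d '' Set.Iio 23

theorem frameSet_subset : frameSet ⊆ classTr := by
  rintro _ ⟨i, hi, rfl⟩
  rw [ThreeTransp.TypeTwentyFour.Model.class_eq, Two.d_eq hi]
  exact ⟨_, rfl⟩

theorem frameSet_card : frameSet.ncard = 23 := by
  rw [frameSet, Set.InjOn.ncard_image]
  · rw [← Finset.coe_Iio, Set.ncard_coe_finset, Nat.card_Iio]
  · intro i hi j hj e
    rw [Two.d_eq hi, Two.d_eq hj] at e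
    exact Two.fpt_inj hi hj (dp_injective e)

theorem frameSet_comm : ∀ a ∈ frameSet, ∀ b ∈ frameSet, Commute a b := by
  rintro _ ⟨i, hi, rfl⟩ _ ⟨j, hj, rfl⟩
  exact Two.d_comm hi hj

theorem width_classTr : Cfsg.commutingWidth classTr = 23 := by
  haveI := CosetCert.Fi23P.finite
  haveI : Fact (Nat.Prime 2) := ⟨Nat.prime_two⟩
  have hS := isThreeTranspositionSet
  obtain ⟨T, hT⟩ := (ThreeTransp.SylowWidth.isPGroup_closure
    (fun e he => hS.1 e (frameSet_subset he)) frameSet_comm).exists_le_sylow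
  rw [← ThreeTransp.SylowWidth.width_eq hS (fun g d hd => classTr_conj hd) T]
  refine (congrArg Set.ncard (Set.Subset.antisymm (fun x hx => ?_) fun x hx => ?_)).trans frameSet_card
  · obtain ⟨hx, hxT⟩ := hx
    rw [ThreeTransp.TypeTwentyFour.Model.class_eq] at hx
    obtain ⟨u, rfl⟩ := hx
    obtain ⟨i, hi, rfl⟩ := FrameMax.frame_max (u := u) fun i hi => dp_injective (by
      have hc := ThreeTransp.SylowWidth.commute_of_two_group hS T.isPGroup'
        (frameSet_subset ⟨i, hi, rfl⟩) (by rw [ThreeTransp.TypeTwentyFour.Model.class_eq]; exact ⟨u, rfl⟩)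
        (hT (Subgroup.subset_closure ⟨i, hi, rfl⟩)) hxT
      rw [← conj_dp, hc.eq, mul_inv_cancel_right])
    exact ⟨i, hi, Two.d_eq hi⟩
  · exact ⟨frameSet_subset hx, hT (Subgroup.subset_closure hx)⟩

/-- The width of a group of type M(23) with the model. -/
theorem width_eq {G : Type*} [Group G] {D : Set G} (h : ModelIso G D) :
    Cfsg.commutingWidth D = 23 := by
  obtain ⟨e, he⟩ := h
  haveI := CosetCert.Fi23P.finite
  haveI : Finite G := Finite.of_equiv _ e.symm.toEquiv
  rw [← width_classTr, ← he]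
  refine le_antisymm (ThreeTransp.Width.width_le fun E hE hc => ?_)
    (ThreeTransp.Width.width_le fun E hE hc => ?_)
  · rw [← Set.ncard_image_of_injective E e.injective]
    refine ThreeTransp.Width.le_width (Set.image_mono hE) ?_
    rintro _ ⟨a, ha, rfl⟩ _ ⟨b, hb, rfl⟩
    exact (hc a ha b hb).map e.toMonoidHom
  · rw [← Set.ncard_image_of_injective E e.symm.injective]
    refine ThreeTransp.Width.le_width ?_ ?_
    · rintro _ ⟨a, ha, rfl⟩
      obtain ⟨x, hx, rfl⟩ := hE ha
      simpa using hx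
    · rintro _ ⟨a, ha, rfl⟩ _ ⟨b, hb, rfl⟩
      exact (hc a ha b hb).map e.symm.toMonoidHom

end CfsgLib.Sporadic.FiTransfer23
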