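import Cfsg.Agent.Lib.Sporadic.FiTransfer23.NearChecks
import Cfsg.Agent.Lib.ThreeTransp.TypeTwentyFour.Model

/-!
# Near a member, the common neighbours of a non-commuting pair fix only its triangle
-/

set_option autoImplicit false
set_option maxRecDepth 100000

open Cfsg.Spor

namespace CfsgLib.Sporadic.FiTransfer23.Near

open CosetCert CosetCert.Fi23P FischerTransitivity
open Fi23Data (table)
open Two (dp conj_dp comm_of_fix el el_img gpt gpt_val)
open OutFi (dp_injective runL_rows)

attribute [local irreducible] PTab.img Forest.cls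

theorem dp_mem (p : Fin table.N) : dp p ∈ classTr := by
  rw [ThreeTransp.TypeTwentyFour.Model.class_eq]; exact ⟨p, rfl⟩

theorem commute_dp_iff (g : Fi23) (p : Fin table.N) : Commute g (dp p) ↔ hom g p = p :=
  ⟨fun h => dp_injective (by rw [← conj_dp, h.eq, mul_inv_cancel_right]), comm_of_fix⟩

theorem el_gen {x : ℕ} (hx : x < 10) : el [x] = dp (gpt x) := by
  rw [Two.el_single, Two.gen_eq_dp x hx]

/-- There are a non-commuting pair and a common neighbour for which the statement holds. -/
theorem exists_near : ∃ x y s : Fi23, x ∈ classTr ∧ y ∈ classTr ∧ ¬ Commute x y ∧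
    s ∈ Nb classTr x ∩ Nb classTr y ∧
    ∀ w ∈ classTr, (∀ u ∈ Nb classTr s ∩ (Nb classTr x ∩ Nb classTr y), Commute w u) →
      w = s ∨ w = x ∨ w = y ∨ w = x * y * x := by
  have hs := small_ok
  simp only [smallK, Bool.and_eq_true, List.all_eq_true, List.mem_cons, List.not_mem_nil, or_false,
    forall_eq_or_imp, forall_eq, Bool.not_eq_true'] at hs
  obtain ⟨⟨⟨⟨⟨hhalf, he0, he6, he7⟩, h2, h3, h4, h8, h9⟩, hs6, hs7⟩, hns⟩, hthird⟩ := hs
  have hu : extraPt < table.N := by decide +kernel
  set U : Fi23 := dp ⟨extraPt, hu⟩ with hUdef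
  have hUel : U = el (OutFi.fullWord extraHalf) := OutFi.dp_of_half hhalf
  have hUlt := OutFi.fullWord_lt hhalf
  have hfix : ∀ (L : List ℕ) (y : ℕ), (∀ x ∈ L, x < 10) → y < 10 →
      Nat.beq (table.imgW L (Two.genPts.getD y 31671)) (Two.genPts.getD y 31671) = true →
      Commute (el L) (dp (gpt y)) := by
    intro L y hL hy h
    refine (commute_dp_iff _ _).2 (Fin.ext ?_)
    rw [el_img hL, gpt_val hy]
    have e : Two.genPts.getD y 31671 = Two.genPts.getD y 0 := by
      rw [List.getD_eq_getElem _ _ (by exact hy), List.getD_eq_getElem _ _ (by exact hy)]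
    rw [← e]
    exact Nat.eq_of_beq_eq_true h
  have one : ∀ x < 10, ∀ z ∈ [x], z < 10 := fun x hx z hz => by simpa [List.mem_singleton.1 hz] using hx
  have hne : ∀ a b : ℕ, a < 10 → b < 10 → Two.genPts.getD a 0 ≠ Two.genPts.getD b 0 →
      dp (gpt a) ≠ dp (gpt b) := fun a b ha hb h e =>
    h (by rw [← gpt_val ha, ← gpt_val hb, dp_injective e])
  refine ⟨dp (gpt 6), dp (gpt 7), dp (gpt 0), dp_mem _, dp_mem _, ?_, ⟨⟨dp_mem _, hne 0 6 (by norm_num) (by norm_num) (by decide), ?_⟩,
    dp_mem _, hne 0 7 (by norm_num) (by norm_num) (by decide), ?_⟩, fun w hw htest => ?_⟩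
  · intro h
    have h' := (commute_dp_iff _ _).1 h
    rw [← el_gen (by norm_num)] at h'
    have h2' := congrArg Fin.val h'
    rw [el_img (one 6 (by norm_num)), gpt_val (by norm_num : (7 : ℕ) < 10)] at h2'
    revert hns h2'
    decide +kernel
  · rw [← el_gen (by norm_num : (0 : ℕ) < 10)]; exact (hfix _ 6 (one 0 (by norm_num)) (by norm_num) hs6).symm
  · rw [← el_gen (by norm_num : (0 : ℕ) < 10)]; exact (hfix _ 7 (one 0 (by norm_num)) (by norm_num) hs7).symm
  rw [ThreeTransp.TypeTwentyFour.Model.class_eq] at hw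
  obtain ⟨v, rfl⟩ := hw
  -- the tests are common neighbours near the member
  have hmem : ∀ L ∈ testWords, (∀ x ∈ L, x < 10) ∧
      el L ∈ Nb classTr (dp (gpt 0)) ∩ (Nb classTr (dp (gpt 6)) ∩ Nb classTr (dp (gpt 7))) := by
    intro L hL
    have key : ∀ x, x < 10 → (Two.genPts.getD x 0 ≠ Two.genPts.getD 0 0) →
        (Two.genPts.getD x 0 ≠ Two.genPts.getD 6 0) → (Two.genPts.getD x 0 ≠ Two.genPts.getD 7 0) →
        (Nat.beq (table.imgW [x] (Two.genPts.getD 0 31671)) (Two.genPts.getD 0 31671) = true) →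
        (Nat.beq (table.imgW [x] (Two.genPts.getD 6 31671)) (Two.genPts.getD 6 31671) = true) →
        (Nat.beq (table.imgW [x] (Two.genPts.getD 7 31671)) (Two.genPts.getD 7 31671) = true) →
        (∀ z ∈ [x], z < 10) ∧
          el [x] ∈ Nb classTr (dp (gpt 0)) ∩ (Nb classTr (dp (gpt 6)) ∩ Nb classTr (dp (gpt 7))) := by
      intro x hx n0 n6 n7 c0 c6 c7
      have e0 := (hfix _ 0 (one x hx) (by norm_num) c0).symm
      have e6 := (hfix _ 6 (one x hx) (by norm_num) c6).symm
      have e7 := (hfix _ 7 (one x hx) (by norm_num) c7).symm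
      refine ⟨one x hx, ?_⟩
      rw [el_gen hx] at e0 e6 e7 ⊢
      exact ⟨⟨dp_mem _, hne x 0 hx (by norm_num) n0, e0⟩, ⟨dp_mem _, hne x 6 hx (by norm_num) n6, e6⟩,
        dp_mem _, hne x 7 hx (by norm_num) n7, e7⟩
    simp only [testWords, List.mem_cons, List.not_mem_nil, or_false] at hL
    rcases hL with rfl | rfl | rfl | rfl | rfl | rfl
    · exact key 2 (by norm_num) (by decide) (by decide) (by decide) h2.1 h2.2.1 h2.2.2
    · exact key 3 (by norm_num) (by decide) (by decide) (by decide) h3.1 h3.2.1 h3.2.2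
    · exact key 4 (by norm_num) (by decide) (by decide) (by decide) h4.1 h4.2.1 h4.2.2
    · exact key 8 (by norm_num) (by decide) (by decide) (by decide) h8.1 h8.2.1 h8.2.2
    · exact key 9 (by norm_num) (by decide) (by decide) (by decide) h9.1 h9.2.1 h9.2.2
    · have e0 := (hfix _ 0 hUlt (by norm_num) he0).symm
      have e6 := (hfix _ 6 hUlt (by norm_num) he6).symm
      have e7 := (hfix _ 7 hUlt (by norm_num) he7).symm
      refine ⟨hUlt, ?_⟩
      rw [← hUel] at e0 e6 e7 ⊢
      have hn : ∀ a : ℕ, a < 10 → extraPt ≠ Two.genPts.getD a 0 → U ≠ dp (gpt a) := fun a ha h e =>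
        h ((congrArg Fin.val (dp_injective e)).trans (gpt_val ha))
      exact ⟨⟨dp_mem _, hn 0 (by norm_num) (by decide), e0⟩, ⟨dp_mem _, hn 6 (by norm_num) (by decide), e6⟩,
        dp_mem _, hn 7 (by norm_num) (by decide), e7⟩
  have hrun : (testWords.all fun L => Nat.beq (PTab.runL (OutFi.rowsOf L) v) v) = true := by
    refine List.all_eq_true.2 fun L hL => Nat.beq_eq.mpr ?_
    obtain ⟨hLlt, hLm⟩ := hmem L hL
    have h := (commute_dp_iff _ _).1 (htest _ hLm).symm
    rw [runL_rows (List.all_eq_true.2 fun x hx => by simpa using hLlt x hx) v.2, ← el_img hLlt]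
    exact congrArg Fin.val h
  have key : ∀ {s n : ℕ}, nearK s n = true → s ≤ v.1 → v.1 < s + n → (v : ℕ) ∈ allowed := by
    intro s n hK h1 h2'
    have h := List.all_eq_true.1 hK (v.1 - s) (List.mem_range.2 (by omega))
    rw [show s + (v.1 - s) = v.1 by omega, hrun] at h
    simpa using h
  have hN : table.N = 31671 := rfl
  have hv := v.2
  have hallowed : (v : ℕ) ∈ allowed := by
    rcases lt_or_ge v.1 8000 with h1 | h1
    · exact key near0 (Nat.zero_le _) (by omega)
    rcases lt_or_ge v.1 16000 with h5 | h5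
    · exact key near1 h1 (by omega)
    rcases lt_or_ge v.1 24000 with h6 | h6
    · exact key near2 h5 (by omega)
    exact key near3 h6 (by omega)
  simp only [allowed, List.mem_cons, List.not_mem_nil, or_false] at hallowed
  rcases hallowed with h | h | h | h
  · exact Or.inl (congrArg dp (Fin.ext (h.trans (gpt_val (by norm_num : (0 : ℕ) < 10)).symm)))
  · exact Or.inr (Or.inl (congrArg dp (Fin.ext (h.trans (gpt_val (by norm_num : (6 : ℕ) < 10)).symm))))
  · exact Or.inr (Or.inr (Or.inl (congrArg dp (Fin.ext (h.trans (gpt_val (by norm_num : (7 : ℕ) < 10)).symm)))))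
  · refine Or.inr (Or.inr (Or.inr ?_))
    have e : hom (el [6]) (gpt 7) = v := Fin.ext (by
      rw [el_img (one 6 (by norm_num)), gpt_val (by norm_num : (7 : ℕ) < 10), h]
      exact Nat.eq_of_beq_eq_true hthird)
    rw [← e, ← conj_dp, el_gen (by norm_num), inv_eq_of_mul_eq_one_right (OutFi.dp_sq _)]

end CfsgLib.Sporadic.FiTransfer23.Near
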