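import Cfsg.Agent.Lib.Sporadic.FiTransfer23.Supports

/-!
Words and tests for the diagram inside the common neighbours.
-/

set_option autoImplicit false
set_option maxRecDepth 100000

namespace CfsgLib.Sporadic.FiTransfer23.Diag

open Supports

/-- The edges among a b c d e h i f. -/
def adj8 (j k : Fin 8) : Bool :=
  let E : List (ℕ × ℕ) := [(0, 1), (1, 2), (2, 3), (3, 4), (3, 5), (5, 6), (4, 7)]
  E.contains (j.1, k.1) || E.contains (k.1, j.1)

/-- The spider word `(d c b d e f d h i)^10`. -/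
def spider : List (Fin 8) := (List.replicate 10 [3, 2, 1, 3, 4, 7, 3, 5, 6]).flatten

/-- The word `(a b c d e f h)^9`. -/
def sevenWord : List (Fin 8) := (List.replicate 9 [0, 1, 2, 3, 4, 7, 5]).flatten

/-- The vector of a node. -/
def nodeVec (w : List (ℕ × ℕ)) (k : Fin 8) : C7 :=
  vecOf (w.getD k.1 (0, 0)).1 (w.getD k.1 (0, 0)).2

/-- Apply a word of reflections. -/
def app (L : List C7) (y : C7) : C7 := L.foldr rfl7 y

/-- A word acts as a sign. -/
def actsPM (L : List C7) : Bool :=
  [(1 : ZMod 3), -1].any fun s => decide (∀ j : Fin 7, ∀ i : Fin 7,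
    app L (Pi.single j 1) i = if i = j then s else 0)

/-- The conditions on one configuration. -/
abbrev ConfigOk (w : List (ℕ × ℕ)) : Prop :=
  w.length = 8 ∧
    (∀ j : Fin 8, dot (nodeVec w j) (nodeVec w j) = 1) ∧
    (∀ j k : Fin 8, j ≠ k → (dot (nodeVec w j) (nodeVec w k) ≠ 0 ↔ adj8 j k = true) ∧
      (nodeVec w j ≠ nodeVec w k ∧ ∃ i, nodeVec w j i ≠ -nodeVec w k i)) ∧
    actsPM (spider.map (nodeVec w)) = true ∧ actsPM (sevenWord.map (nodeVec w)) = true

end CfsgLib.Sporadic.FiTransfer23.Diag
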