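import Mathlib

/-!
# Statements about a pair of non-commuting members and their common neighbours

The facts needed from the neighbourhood of a member, phrased for any set in a group.
-/

set_option autoImplicit false

namespace CfsgLib.Sporadic.FiTransfer23

variable {G : Type*} [Group G]

/-- The members commuting with both. -/
def Com (E : Set G) (u v : G) : Set G := {q | q ∈ E ∧ Commute u q ∧ Commute v q}

/-- The other members commuting with the first but not the second. -/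
def Mov (E : Set G) (u v : G) : Set G := {w | w ∈ E ∧ w ≠ u ∧ Commute u w ∧ ¬ Commute v w}

/-- The facts used at a member `x`: for the pair `u, v` the moved members see thirty common ones,
among them six commuting ones, and are determined by them; no common member is central. -/
structure PairFacts (E : Set G) (u v : G) : Prop where
  nonempty : (Mov E u v).Nonempty
  thirty : ∀ w ∈ Mov E u v, {q | q ∈ Com E u v ∧ Commute w q}.ncard = 30
  six : ∀ w ∈ Mov E u v, ∃ f : Fin 6 → G, Function.Injective f ∧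
    (∀ i, f i ∈ Com E u v ∧ Commute w (f i)) ∧ ∀ i j, Commute (f i) (f j)
  unique : ∀ w ∈ Mov E u v, ∀ w' ∈ Mov E u v,
    (∀ q ∈ Com E u v, Commute w q → Commute w' q) → w = w'
  apart : ∀ q ∈ Com E u v, ∃ q' ∈ Com E u v, ¬ Commute q q'

theorem conj_commute_iff (g a b : G) :
    Commute (g * a * g⁻¹) (g * b * g⁻¹) ↔ Commute a b :=
  Commute.conj_iff g

/-- An injective, product compatible change of setting. -/
theorem PairFacts.pullback {G' : Type*} [Group G'] {E : Set G} {E' : Set G'} (θ : G → G')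
    (hmem : ∀ a ∈ E, θ a ∈ E') (hinj : Set.InjOn θ E) (hsurj : ∀ b ∈ E', ∃ a ∈ E, θ a = b)
    (hc : ∀ a ∈ E, ∀ b ∈ E, Commute (θ a) (θ b) ↔ Commute a b) {u v : G} (hu : u ∈ E) (hv : v ∈ E)
    (h : PairFacts E' (θ u) (θ v)) : PairFacts E u v := by
  have hcom : ∀ q ∈ E, (θ q ∈ Com E' (θ u) (θ v) ↔ q ∈ Com E u v) := fun q hq => by
    simp only [Com, Set.mem_ofPred_eq, hmem q hq, hq, true_and, hc u hu q hq, hc v hv q hq]
  have hmov : ∀ w ∈ E, (θ w ∈ Mov E' (θ u) (θ v) ↔ w ∈ Mov E u v) := fun w hw => by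
    simp only [Mov, Set.mem_ofPred_eq, hmem w hw, hw, true_and, hc u hu w hw, hc v hv w hw,
      ne_eq, hinj.eq_iff hw hu]
  have himg : ∀ w ∈ E, θ '' {q | q ∈ Com E u v ∧ Commute w q} =
      {q | q ∈ Com E' (θ u) (θ v) ∧ Commute (θ w) q} := fun w hw => by
    ext b
    constructor
    · rintro ⟨q, ⟨hq, hwq⟩, rfl⟩
      exact ⟨(hcom q hq.1).2 hq, (hc w hw q hq.1).2 hwq⟩
    · rintro ⟨hb, hwb⟩
      obtain ⟨q, hq, rfl⟩ := hsurj b hb.1
      exact ⟨q, ⟨(hcom q hq).1 hb, (hc w hw q hq).1 hwb⟩, rfl⟩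
  constructor
  · obtain ⟨b, hb⟩ := h.nonempty
    obtain ⟨w, hw, rfl⟩ := hsurj b hb.1
    exact ⟨w, (hmov w hw).1 hb⟩
  · intro w hw
    rw [← h.thirty (θ w) ((hmov w hw.1).2 hw), ← himg w hw.1,
      Set.InjOn.ncard_image (hinj.mono fun q hq => hq.1.1)]
  · intro w hw
    obtain ⟨f, hf, hmemf, hcf⟩ := h.six (θ w) ((hmov w hw.1).2 hw)
    choose g hg hgf using fun i => hsurj (f i) (hmemf i).1.1
    refine ⟨g, fun i j e => hf (by rw [← hgf i, ← hgf j, e]), fun i => ⟨?_, ?_⟩, fun i j => ?_⟩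
    · exact (hcom _ (hg i)).1 (by rw [hgf]; exact (hmemf i).1)
    · exact (hc w hw.1 _ (hg i)).1 (by rw [hgf]; exact (hmemf i).2)
    · exact (hc _ (hg i) _ (hg j)).1 (by rw [hgf, hgf]; exact hcf i j)
  · intro w hw w' hw' hq
    refine hinj hw.1 hw'.1 (h.unique _ ((hmov w hw.1).2 hw) _ ((hmov w' hw'.1).2 hw') ?_)
    intro b hb hwb
    obtain ⟨q, hqE, rfl⟩ := hsurj b hb.1
    exact (hc w' hw'.1 q hqE).2 (hq q ((hcom q hqE).1 hb) ((hc w hw.1 q hqE).1 hwb))
  · intro q hq
    obtain ⟨b, hb, hnb⟩ := h.apart (θ q) ((hcom q hq.1).2 hq)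
    obtain ⟨q', hq', rfl⟩ := hsurj b hb.1
    exact ⟨q', (hcom q' hq').1 hb, fun e => hnb ((hc q hq.1 q' hq').2 e)⟩

/-- Pair facts move along conjugation. -/
theorem PairFacts.conj {E : Set G} (hE : ∀ g : G, ∀ a ∈ E, g * a * g⁻¹ ∈ E) {u v : G} (hu : u ∈ E)
    (hv : v ∈ E) (g : G) (h : PairFacts E (g * u * g⁻¹) (g * v * g⁻¹)) : PairFacts E u v := by
  refine PairFacts.pullback (fun a => g * a * g⁻¹) (fun a ha => hE g a ha)
    (fun a _ b _ e => mul_left_cancel (mul_right_cancel e)) (fun b hb => ?_)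
    (fun a _ b _ => conj_commute_iff g a b) hu hv h
  exact ⟨g⁻¹ * b * g, by simpa using hE g⁻¹ b hb, by group⟩

end CfsgLib.Sporadic.FiTransfer23
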