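import Cfsg.Agent.Lib.Sporadic.FiTransfer23.FrameData

/-!
# The scan
-/

set_option autoImplicit false
set_option maxRecDepth 100000
set_option maxHeartbeats 0

namespace CfsgLib.Sporadic.FiTransfer23.FrameMax

theorem max0 : frameMaxK 0 8000 = true := by decide +kernel
theorem max1 : frameMaxK 8000 8000 = true := by decide +kernel
theorem max2 : frameMaxK 16000 8000 = true := by decide +kernel
theorem max3 : frameMaxK 24000 7671 = true := by decide +kernel

end CfsgLib.Sporadic.FiTransfer23.FrameMax
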