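import Cfsg.Agent.Lib.Sporadic.Fi23Out.Defs
import Cfsg.Agent.Lib.Sporadic.Fi23SylowTwo.Defs

/-!
# The twenty-three commuting transpositions have no common fixed point outside the frame
-/

set_option autoImplicit false

namespace CfsgLib.Sporadic.FiTransfer23.FrameMax

open CosetCert CosetCert.Fi23P

/-- Points fixed by all twenty-three transpositions belong to the frame. -/
noncomputable def frameMaxK (s n : ℕ) : Bool :=
  (List.range n).all fun i =>
    !(Nat.beq (PTab.runL (List.replicate 9 Fi23Data.prodE7) (s + i)) (s + i)) ||
      Two.frame.contains (s + i) ||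
      !((List.range 23).all fun j => Nat.beq (PTab.runL (OutFi.rowsOf (Two.frameWord j)) (s + i)) (s + i))

end CfsgLib.Sporadic.FiTransfer23.FrameMax
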