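import Cfsg.Agent.Lib.Sporadic.FiTransfer23.Width
import Cfsg.Agent.Lib.Sporadic.Fi23SylowTwo.Main
import Cfsg.Agent.Lib.ThreeTransp.TypeTwentyFour.Model
import Cfsg.Agent.Lib.Fusion.Thompson

/-!
The Thompson subgroup of a Sylow 2-subgroup of a transposition centralizer in type M(23): elementary
abelian of order 2048, containing twenty-three members, which its normaliser permutes transitively.
-/

set_option autoImplicit false
set_option maxRecDepth 100000

open Cfsg.Spor

namespace CfsgLib.Sporadic.FiTransfer23.FrameThompson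

open CosetCert CosetCert.Fi23P
open CfsgLib.Fusion

attribute [local irreducible] PTab.img Forest.cls

theorem d_mem_eSub {i : ℕ} (hi : i < 23) : Two.d i ∈ Two.eSub :=
  Two.mem_eSub.2 ⟨_, Two.coord_lt hi, Two.d_coord hi⟩

theorem mem_classTr_eSub : {x | x ∈ classTr ∧ x ∈ Two.eSub} = frameSet := by
  refine Set.Subset.antisymm ?_ ?_
  · rintro x ⟨hx, hxE⟩
    rw [ThreeTransp.TypeTwentyFour.Model.class_eq] at hx
    obtain ⟨u, rfl⟩ := hx
    obtain ⟨i, hi, rfl⟩ := FrameMax.frame_max (u := u) fun i hi => OutFi.dp_injective (by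
      have hc : Two.d i * Two.dp u = Two.dp u * Two.d i :=
        Thompson.mul_comm_of_isEA Two.eSub_elementary (d_mem_eSub hi) hxE
      rw [← Two.conj_dp, hc, mul_inv_cancel_right])
    exact ⟨i, hi, Two.d_eq hi⟩
  · rintro _ ⟨i, hi, rfl⟩
    exact ⟨frameSet_subset ⟨i, hi, rfl⟩, d_mem_eSub hi⟩

theorem sylow_conj (T : Sylow 2 Fi23) :
    ∃ g : Fi23, (T : Subgroup Fi23) = Two.syl.map (MulAut.conj g).toMonoidHom := by
  have := Two.finite'
  have hidx : ¬ 2 ∣ Two.syl.index := by
    have h := Two.syl.card_mul_index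
    rw [Two.card_syl, card_eq.1] at h
    have h' : Two.syl.index = 4089470473293004800 / 2 ^ 18 := by
      rw [← h, Nat.mul_div_cancel_left _ (by norm_num)]
    rw [h']; norm_num
  obtain ⟨g, hg⟩ := MulAction.exists_smul_eq Fi23 ((IsPGroup.of_card Two.card_syl).toSylow hidx) T
  exact ⟨g, by rw [← hg]; rfl⟩

/-- Largest elementary abelian 2-subgroups have order 2048; a Sylow subgroup has just one. -/
theorem ea_facts (T : Sylow 2 Fi23) : ∀ B : Subgroup Fi23, B ≤ T → Cfsg.IsElementaryAbelian 2 B →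
    Nat.card B ≤ 2048 ∧ ∀ B' : Subgroup Fi23, B' ≤ T → Cfsg.IsElementaryAbelian 2 B' →
      Nat.card B = 2048 → Nat.card B' = 2048 → B = B' := by
  obtain ⟨g, hg⟩ := sylow_conj T
  have hpre : ∀ B : Subgroup Fi23, B ≤ T → Cfsg.IsElementaryAbelian 2 B →
      Nat.card B ≤ 2048 ∧ (Nat.card B = 2048 → B = Two.eSub.map (MulAut.conj g).toMonoidHom) := by
    intro B hB hBA
    let f : Fi23 ≃* Fi23 := (MulAut.conj g).symm
    have hle : B.map f.toMonoidHom ≤ Two.syl := by
      rintro _ ⟨x, hx, rfl⟩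
      have := hB hx
      rw [hg] at this
      obtain ⟨y, hy, rfl⟩ := this
      show (MulAut.conj g).symm (MulAut.conj g y) ∈ Two.syl
      rw [MulEquiv.symm_apply_apply]; exact hy
    obtain ⟨h1, h2⟩ := Two.card_le hle (Thompson.isEA_map _ hBA)
    rw [Subgroup.card_map_of_injective f.injective] at h1 h2
    refine ⟨by simpa using h1, fun hc => ?_⟩
    rw [← h2 (by simpa using hc), Subgroup.map_map]
    conv_lhs => rw [← Subgroup.map_id B]
    congr 1
    ext x
    simp [f, mul_assoc]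
  exact fun B hB hBA => ⟨(hpre B hB hBA).1, fun B' hB' hBA' hc hc' =>
    ((hpre B hB hBA).2 hc).trans ((hpre B' hB' hBA').2 hc').symm⟩

theorem maxEA_iff (B : Subgroup Fi23) :
    B ∈ Cfsg.maxElementaryAbelianSubgroups 2 Fi23 ↔ Cfsg.IsElementaryAbelian 2 B ∧ Nat.card B = 2048 := by
  have := Two.finite'
  have hle : ∀ C : Subgroup Fi23, Cfsg.IsElementaryAbelian 2 C → Nat.card C ≤ 2048 := fun C hC => by
    obtain ⟨T, hT⟩ := (Thompson.isPGroup_isEA hC).exists_le_sylow
    exact (ea_facts T C hT hC).1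
  refine ⟨fun h => ⟨h.1, le_antisymm (hle B h.1) ?_⟩, fun h => ⟨h.1, fun C hC => h.2.symm ▸ hle C hC⟩⟩
  have := h.2 Two.eSub Two.eSub_elementary
  rwa [Two.card_eSub] at this

variable {G : Type*} [Group G] {D : Set G}

/-- The Thompson subgroup of a Sylow 2-subgroup of the centralizer of a member. -/
theorem thompson_row [Finite G] (h : ModelIso G D) {d : G} (hd : d ∈ D)
    (S : Sylow 2 ↥(Subgroup.centralizer ({d} : Set G))) (A : Subgroup G)
    (hA : A = (Cfsg.thompsonSubgroupOf 2 (S : Subgroup ↥(Subgroup.centralizer ({d} : Set G)))).map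
      (Subgroup.centralizer ({d} : Set G)).subtype) :
    Cfsg.IsElementaryAbelian 2 A ∧ Nat.card A = 2 ^ 11 ∧ Set.ncard {x : G | x ∈ A ∧ x ∈ D} = 23 ∧
      ∀ x ∈ A, ∀ y ∈ A, x ∈ D → y ∈ D → ∃ n ∈ Subgroup.normalizer (A : Set G), n * x * n⁻¹ = y := by
  have := Two.finite'
  obtain ⟨e, he⟩ := h
  have hmodel : ModelIso G D := ⟨e, he⟩
  have hEA : ∀ B : Subgroup G, B ∈ Cfsg.maxElementaryAbelianSubgroups 2 G ↔
      B.map e.toMonoidHom ∈ Cfsg.maxElementaryAbelianSubgroups 2 Fi23 := by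
    refine fun B => ⟨Thompson.maxEA_map_equiv e, fun hB => ?_⟩
    have := Thompson.maxEA_map_equiv e.symm hB
    rwa [Subgroup.map_map, show e.symm.toMonoidHom.comp e.toMonoidHom = MonoidHom.id G by ext x; simp,
      Subgroup.map_id] at this
  have hcard : ∀ B : Subgroup G, Nat.card (B.map e.toMonoidHom) = Nat.card B := fun B =>
    Subgroup.card_map_of_injective e.injective
  have huniq : ∀ T : Sylow 2 G, ∀ B B' : Subgroup G, B ∈ Cfsg.maxElementaryAbelianSubgroups 2 G →
      B' ∈ Cfsg.maxElementaryAbelianSubgroups 2 G → B ≤ T → B' ≤ T → B = B' := by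
    intro T B B' hB hB' hT hT'
    have h1 := (maxEA_iff _).1 ((hEA B).1 hB)
    have h2 := (maxEA_iff _).1 ((hEA B').1 hB')
    refine Subgroup.map_injective e.injective (f := e.toMonoidHom) ?_
    exact (ea_facts (Sylow.mapSurjective (f := e.toMonoidHom) e.surjective T) _ (Subgroup.map_mono hT) h1.1).2
      _ (Subgroup.map_mono hT') h2.1 h1.2 h2.2
  have hidx : ∀ p ∈ D, ¬ 2 ∣ (Subgroup.centralizer ({p} : Set G)).index := by
    intro p hp
    obtain ⟨f, -, hfp, -⟩ := ThreeTransp.TypeTwentyFour.Model.to_model hmodel hp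
    have hm : (Subgroup.centralizer ({p} : Set G)).map f.toMonoidHom = sub lH := by
      rw [← centralizer_tr]
      ext y
      rw [Subgroup.mem_map_equiv, Subgroup.mem_centralizer_singleton_iff,
        Subgroup.mem_centralizer_singleton_iff, ← hfp]
      constructor
      · intro hy; simpa using congrArg f hy
      · intro hy; exact f.injective (by simpa using hy)
    have hi : (Subgroup.centralizer ({p} : Set G)).index = 31671 := by
      rw [← index_H_eq, ← hm]
      exact (Subgroup.index_map_equiv _ f).symm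
    rw [hi]; norm_num
  -- Sylow subgroups of centralizers of members are Sylow subgroups
  have hsyl : ∀ p ∈ D, ∀ P : Sylow 2 ↥(Subgroup.centralizer ({p} : Set G)), ∃ T : Sylow 2 G,
      (T : Subgroup G) = (P : Subgroup _).map (Subgroup.centralizer ({p} : Set G)).subtype := by
    intro p hp P
    have hi : ¬ 2 ∣ ((P : Subgroup _).map (Subgroup.centralizer ({p} : Set G)).subtype).index := by
      rw [Subgroup.index_map_subtype]
      exact fun h2 => ((Nat.prime_two.dvd_mul).1 h2).elim P.not_dvd_index (hidx p hp)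
    exact ⟨(P.2.map (Subgroup.centralizer ({p} : Set G)).subtype).toSylow hi, rfl⟩
  obtain ⟨T, hT⟩ := hsyl d hd S
  have hAT : A = Cfsg.thompsonSubgroupOf 2 (T : Subgroup G) := by
    rw [hA, hT]
    simp only [Cfsg.thompsonSubgroupOf]
    rw [← Thompson.map_thompson_equiv
      ((S : Subgroup _).equivMapOfInjective _ (Subgroup.centralizer ({d} : Set G)).subtype_injective),
      Subgroup.map_map, Subgroup.map_map]
    congr 1
  obtain ⟨A₀, hA₀, hA₀T⟩ := Thompson.exists_maxEA_le_sylow T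
  have hAA : A = A₀ := by
    rw [hAT, Thompson.thompsonSubgroupOf_eq hA₀ hA₀T]
    exact le_antisymm (sSup_le fun B hB => (huniq T B A₀ hB.1 hA₀ hB.2 hA₀T).le) (le_sSup ⟨hA₀, hA₀T⟩)
  subst hAA
  have hAm := (maxEA_iff _).1 ((hEA A).1 hA₀)
  refine ⟨hA₀.1, ?_, ?_, ?_⟩
  · rw [← hcard, hAm.2]; norm_num
  · obtain ⟨T', hT'⟩ := (Thompson.isPGroup_isEA hAm.1).exists_le_sylow
    obtain ⟨g, hg⟩ := sylow_conj T'
    have heq : A.map e.toMonoidHom = Two.eSub.map (MulAut.conj g).toMonoidHom := by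
      refine (ea_facts T' _ hT' hAm.1).2 _ ?_ (Thompson.isEA_map _ Two.eSub_elementary) hAm.2 ?_
      · rw [hg]; exact Subgroup.map_mono Two.eSub_le
      · rw [Subgroup.card_map_of_injective (MulAut.conj g).injective, Two.card_eSub]
    have himg : e '' {x : G | x ∈ A ∧ x ∈ D} = MulAut.conj g '' frameSet := by
      rw [← mem_classTr_eSub]
      ext y
      constructor
      · rintro ⟨x, ⟨hxA, hxD⟩, rfl⟩
        obtain ⟨z, hz, hzx⟩ := (heq ▸ Subgroup.mem_map_of_mem e.toMonoidHom hxA :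
          e x ∈ Two.eSub.map (MulAut.conj g).toMonoidHom)
        refine ⟨z, ⟨?_, hz⟩, hzx⟩
        have h1 := classTr_conj (g := g⁻¹) (hzx ▸ (mem_iff_of_image e he).1 hxD :
          (MulAut.conj g) z ∈ classTr)
        simpa [mul_assoc] using h1
      · rintro ⟨z, ⟨hzc, hz⟩, rfl⟩
        obtain ⟨x, hx, hxz⟩ := (heq ▸ Subgroup.mem_map_of_mem (MulAut.conj g).toMonoidHom hz :
          MulAut.conj g z ∈ A.map e.toMonoidHom)
        refine ⟨x, ⟨hx, ?_⟩, hxz⟩
        rw [mem_iff_of_image e he, show e x = MulAut.conj g z from hxz]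
        exact classTr_conj hzc
    rw [← Set.ncard_image_of_injective _ e.injective, himg,
      Set.ncard_image_of_injective _ (MulAut.conj g).injective, frameSet_card]
  · intro x hxA y hyA hx hy
    have hcls : ∃ k : G, k * x * k⁻¹ = y := by
      obtain ⟨k, hk⟩ := isConj_iff.1
        (IsConj.trans (IsConj.symm ((mem_iff_of_image e he).1 hx)) ((mem_iff_of_image e he).1 hy))
      exact ⟨e.symm k, e.injective (by simpa using hk)⟩
    obtain ⟨k, hk⟩ := hcls
    let A' : Subgroup G := A.map (MulAut.conj k).toMonoidHom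
    have hA' : A' ∈ Cfsg.maxElementaryAbelianSubgroups 2 G := Thompson.maxEA_map_equiv _ hA₀
    set C := Subgroup.centralizer ({y} : Set G)
    have hle : A ≤ C := fun a ha => Subgroup.mem_centralizer_singleton_iff.2
      (Thompson.mul_comm_of_isEA hA₀.1 ha hyA)
    have hle' : A' ≤ C := fun a ha => Subgroup.mem_centralizer_singleton_iff.2
      (Thompson.mul_comm_of_isEA hA'.1 ha ⟨x, hxA, hk⟩)
    obtain ⟨P, hP⟩ := (Thompson.isPGroup_isEA (Thompson.isEA_subgroupOf hA₀.1 C)).exists_le_sylow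
    obtain ⟨P', hP'⟩ := (Thompson.isPGroup_isEA (Thompson.isEA_subgroupOf hA'.1 C)).exists_le_sylow
    obtain ⟨c, hc⟩ := MulAction.exists_smul_eq ↥C P' P
    obtain ⟨T₁, hT₁⟩ := hsyl y hy P
    have h1 : A ≤ (T₁ : Subgroup G) := fun a ha => hT₁ ▸
      ⟨⟨a, hle ha⟩, hP (Subgroup.mem_subgroupOf.2 ha), rfl⟩
    have h2 : A'.map (MulAut.conj (c : G)).toMonoidHom ≤ (T₁ : Subgroup G) := by
      rintro _ ⟨a, ha, rfl⟩
      rw [hT₁, ← hc]
      exact ⟨c * ⟨a, hle' ha⟩ * c⁻¹, ⟨⟨a, hle' ha⟩, hP' (Subgroup.mem_subgroupOf.2 ha), rfl⟩, rfl⟩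
    have h3 := huniq T₁ A _ hA₀ (Thompson.maxEA_map_equiv _ hA') h1 h2
    refine ⟨c * k, ?_, ?_⟩
    · rw [Subgroup.mem_normalizer_iff]
      intro z
      conv_rhs => rw [h3, Subgroup.map_map]
      have hf : ((MulAut.conj (c : G)).toMonoidHom.comp (MulAut.conj k).toMonoidHom) z =
          (c : G) * k * z * ((c : G) * k)⁻¹ := by simp [mul_assoc]
      rw [← hf]
      exact (Subgroup.mem_map_iff_mem (fun a b hab => (MulAut.conj k).injective
        ((MulAut.conj (c : G)).injective hab))).symm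
    · rw [show (c : G) * k * x * ((c : G) * k)⁻¹ = (c : G) * (k * x * k⁻¹) * (c : G)⁻¹ by group, hk,
        Subgroup.mem_centralizer_singleton_iff.1 c.2, mul_inv_cancel_right]

end CfsgLib.Sporadic.FiTransfer23.FrameThompson
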