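import Cfsg.Agent.Lib.Sporadic.FiTransfer23.Instance

/-!
# Existence of groups of type M(22) and M(23)

The first two parts of the existence statement for the groups of type M(22), M(23), M(24).
-/

set_option autoImplicit false

namespace CfsgLib.Sporadic.FiTransfer23.InstanceClass

theorem m22_class : Cfsg.IsThreeTranspositionClass FiTransfer.classTr :=
  ⟨FiTransfer.Instance.isThreeTranspositionSet, ⟨_, FiTransfer.mem_classTr_self, rfl⟩,
    FiTransfer.Instance.closure_classTr⟩

theorem m23_class : Cfsg.IsThreeTranspositionClass classTr :=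
  ⟨isThreeTranspositionSet, ⟨_, Instance.tr_mem_class, rfl⟩, Instance.closure_classTr⟩

theorem exists_m22 : ∃ (X : Type) (_ : Group X) (_ : Finite X) (E : Set X),
    Cfsg.IsThreeTranspositionClass E ∧ Cfsg.IsPrimitiveUnderConj E ∧ Cfsg.IsOfTypeM22 X E :=
  ⟨Cfsg.Spor.Fi22, inferInstance, CosetCert.FiP.finite, FiTransfer.classTr, m22_class,
    FiTransfer.Instance.isPrimitive, FiTransfer.Instance.isOfTypeM22⟩

theorem exists_m23 : ∃ (X : Type) (_ : Group X) (_ : Finite X) (E : Set X),
    Cfsg.IsThreeTranspositionClass E ∧ Cfsg.IsPrimitiveUnderConj E ∧ Cfsg.IsOfTypeM23 X E :=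
  ⟨Cfsg.Spor.Fi23, inferInstance, CosetCert.Fi23P.finite, classTr, m23_class,
    Instance.isPrimitive, Instance.isOfTypeM23⟩

end CfsgLib.Sporadic.FiTransfer23.InstanceClass
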