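import Cfsg.Agent.Lib.Sporadic.FiTransfer.InstanceCongr
import Cfsg.Agent.Lib.Sporadic.FiTransfer23.InstanceClass

/-!
A group with the model of Fi23 is of type M(23).
-/

set_option autoImplicit false

namespace CfsgLib.Sporadic.FiTransfer23.ModelRows

open CfsgLib.Sporadic.FiTransfer.InstanceCongr

universe u v

theorem isOfTypeM23_congr {G : Type u} {G' : Type v} [Group G] [Group G'] (e : G ≃* G') {D : Set G}
    {D' : Set G'} (he : e '' D = D') (h : Cfsg.IsOfTypeM23 G D) : Cfsg.IsOfTypeM23 G' D' := by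
  subst he
  obtain ⟨hc, d, hd, c, hcD, hdc, h22, c₃, h3, Q, hQ, hdet, ⟨ψ⟩⟩ := h
  have hmap : (Subgroup.closure {y : G | y ∈ D ∧ y ≠ d ∧ Commute d y}).map e.toMonoidHom =
      Subgroup.closure {y : G' | y ∈ e '' D ∧ y ≠ e d ∧ Commute (e d) y} := by
    rw [MonoidHom.map_closure]
    exact congrArg Subgroup.closure (nb_image e D d)
  refine ⟨?_, e d, ⟨d, hd, rfl⟩, e c, ⟨c, hcD, rfl⟩,
    fun h => hdc (e.injective (by simpa using h.eq)), ?_, c₃, h3, Q, hQ, hdet, ⟨?_⟩⟩
  · rw [Subgroup.eq_bot_iff_forall]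
    intro z hz
    have : e.symm z ∈ Subgroup.center G := Subgroup.mem_center_iff.2 fun g => e.injective (by
      simpa using Subgroup.mem_center_iff.1 hz (e g))
    rw [hc, Subgroup.mem_bot] at this
    simpa using congrArg e this
  · refine isOfTypeM22_congr (subQuot e (Subgroup.closure _) _ hmap) ?_ h22
    ext q
    constructor
    · rintro ⟨_, ⟨x, hx, rfl⟩, rfl⟩
      exact ⟨(e.subgroupMap _).trans (MulEquiv.subgroupCongr hmap) x,
        (nb_image e D d ▸ Set.mem_image_of_mem e hx :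
          e (x : G) ∈ {y : G' | y ∈ e '' D ∧ y ≠ e d ∧ Commute (e d) y}), rfl⟩
    · rintro ⟨y, hy, rfl⟩
      obtain ⟨x, hx, hxy⟩ : (y : G') ∈ e '' {y : G | y ∈ D ∧ y ≠ d ∧ Commute d y} := by
        rw [nb_image]; exact hy
      refine ⟨_, ⟨⟨x, Subgroup.subset_closure hx⟩, hx, rfl⟩, ?_⟩
      exact congrArg QuotientGroup.mk (Subtype.ext hxy)
  · refine (subQuot e (Subgroup.closure _) _ ?_).symm.trans ψ
    rw [MonoidHom.map_closure, MulEquiv.coe_toMonoidHom, Set.image_inter e.injective, nb_image, nb_image]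

/-- The conclusion on a group with the model. -/
theorem class_and_type {G : Type*} [Group G] {d : G} (h : ModelIso G (conjugatesOf d)) :
    Cfsg.IsThreeTranspositionClass (conjugatesOf d) ∧ Cfsg.IsOfTypeM23 G (conjugatesOf d) := by
  obtain ⟨e, he⟩ := h
  obtain ⟨⟨⟨hord, hmul⟩, -, hgen⟩, htype⟩ := And.intro InstanceClass.m23_class Instance.isOfTypeM23
  have hmem : ∀ {x : G}, x ∈ conjugatesOf d → e x ∈ classTr := fun hx => he ▸ Set.mem_image_of_mem e hx
  have himg : e.symm '' classTr = conjugatesOf d := by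
    rw [← he, Set.image_image]
    simp
  refine ⟨⟨⟨fun x hx => ?_, fun x hx y hy => ?_⟩, ⟨d, mem_conjugatesOf_self, rfl⟩, ?_⟩,
    isOfTypeM23_congr e.symm himg htype⟩
  · rw [← MulEquiv.orderOf_eq e, hord _ (hmem hx)]
  · refine (hmul _ (hmem hx) _ (hmem hy)).imp ?_ ?_ <;>
    · intro h
      rw [← map_mul, ← map_pow, ← map_one e] at h
      exact e.injective h
  · rw [← himg, show e.symm '' classTr = e.symm.toMonoidHom '' classTr from rfl, ← MonoidHom.map_closure,
      hgen, Subgroup.map_top_of_surjective _ e.symm.surjective]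

end CfsgLib.Sporadic.FiTransfer23.ModelRows
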