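import Cfsg.Agent.Lib.Sporadic.FiTransfer23.NearData

/-!
# The scan
-/

set_option autoImplicit false
set_option maxRecDepth 100000
set_option maxHeartbeats 0

namespace CfsgLib.Sporadic.FiTransfer23.Near

theorem near0 : nearK 0 8000 = true := by decide +kernel
theorem near1 : nearK 8000 8000 = true := by decide +kernel
theorem near2 : nearK 16000 8000 = true := by decide +kernel
theorem near3 : nearK 24000 7671 = true := by decide +kernel
theorem small_ok : smallK = true := by decide +kernel

end CfsgLib.Sporadic.FiTransfer23.Near
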