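import Cfsg.Agent.Lib.Sporadic.Fi23Out.Defs

/-!
# Data: the common neighbours of a non-commuting pair near a third member
-/

set_option autoImplicit false

namespace CfsgLib.Sporadic.FiTransfer23.Near

open CosetCert CosetCert.Fi23P

/-- The word carrying the extra point to the point of a generator. -/
def extraHalf : List ℕ × ℕ := ([5, 4, 3, 8, 9, 6, 5, 4, 3, 8, 7, 6, 5, 4, 3], 2)

/-- The extra point. -/
def extraPt : ℕ := 79

/-- The transpositions commuting with the pair and the member, as words. -/
def testWords : List (List ℕ) := [[2], [3], [4], [8], [9], OutFi.fullWord extraHalf]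

/-- The member and the triangle of the pair. -/
def allowed : List ℕ := [11589, 8005, 8006, 6531]

/-- The points fixed by all the tests are allowed. -/
noncomputable def nearK (s n : ℕ) : Bool :=
  (List.range n).all fun i => allowed.contains (s + i) ||
    !(testWords.all fun w => Nat.beq (PTab.runL (OutFi.rowsOf w) (s + i)) (s + i))

/-- The small facts. -/
noncomputable def smallK : Bool :=
  OutFi.halfK extraPt extraHalf &&
    ([0, 6, 7].all fun x =>
      Nat.beq (Fi23Data.table.imgW (OutFi.fullWord extraHalf) (Two.genPts.getD x 31671))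
        (Two.genPts.getD x 31671)) &&
    ([2, 3, 4, 8, 9].all fun x => [0, 6, 7].all fun y =>
      Nat.beq (Fi23Data.table.imgW [x] (Two.genPts.getD y 31671)) (Two.genPts.getD y 31671)) &&
    ([6, 7].all fun y => Nat.beq (Fi23Data.table.imgW [0] (Two.genPts.getD y 31671)) (Two.genPts.getD y 31671)) &&
    !(Nat.beq (Fi23Data.table.imgW [6] (Two.genPts.getD 7 31671)) (Two.genPts.getD 7 31671)) &&
    Nat.beq (Fi23Data.table.imgW [6] (Two.genPts.getD 7 31671)) (allowed.getD 3 0)

end CfsgLib.Sporadic.FiTransfer23.Near
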