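import Cfsg.Agent.Lib.Sporadic.FiTransfer23.Width

/-!
# Order, width and centralizers in a group with the Fi23 model
-/

set_option autoImplicit false

open Cfsg.Spor

namespace CfsgLib.Sporadic.FiTransfer23

open CfsgLib.ThreeTransp FischerTransitivity

theorem order_facts {G : Type*} [Group G] {D : Set G} (h : ModelIso G D) :
    IsSimpleGroup G ∧ D.ncard = 31671 ∧
      Nat.card G = 2 ^ 18 * 3 ^ 13 * 5 ^ 2 * 7 * 11 * 13 * 17 * 23 ∧ Cfsg.commutingWidth D = 23 ∧
      ∀ d ∈ D, Subgroup.closure {y : G | y ∈ D ∧ y ≠ d ∧ Commute d y}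
          = Subgroup.centralizer ({d} : Set G) ∧
        Cfsg.IsQuasisimple ↥(Subgroup.closure {y : G | y ∈ D ∧ y ≠ d ∧ Commute d y}) ∧
        Subgroup.center ↥(Subgroup.closure {y : G | y ∈ D ∧ y ≠ d ∧ Commute d y})
          = (Subgroup.zpowers d).subgroupOf
              (Subgroup.closure {y : G | y ∈ D ∧ y ≠ d ∧ Commute d y}) := by
  refine ⟨TypeTwentyFour.Model.simple h, TypeTwentyFour.Model.card_set h,
    (TypeTwentyFour.Model.card_group h).trans (by norm_num), width_eq h, fun d hd => ?_⟩
  have he : Subgroup.closure {y : G | y ∈ D ∧ y ≠ d ∧ Commute d y}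
      = Subgroup.centralizer ({d} : Set G) := TypeTwentyFour.Model.centralizer_eq h hd
  refine ⟨he, ?_, ?_⟩
  · rw [he]; exact (TypeTwentyFour.Model.centralizer_quasi h hd).1
  · rw [he]
    ext z
    rw [Subgroup.mem_center_iff, Subgroup.mem_subgroupOf]
    constructor
    · intro hz
      have h1 : ∀ g : G, Commute g d → Commute g (z : G) := fun g hg =>
        congrArg Subtype.val (hz ⟨g, Subgroup.mem_centralizer_singleton_iff.2 hg.eq⟩)
      rcases TypeTwentyFour.Model.center_closure h hd
          (Subgroup.mem_centralizer_singleton_iff.1 z.2) h1 with e | e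
      · rw [e]; exact one_mem _
      · rw [e]; exact Subgroup.mem_zpowers d
    · intro hz k
      obtain ⟨n, hn⟩ := Subgroup.mem_zpowers_iff.1 hz
      refine Subtype.ext ?_
      show (k : G) * z = z * k
      rw [← hn]
      exact ((show Commute (k : G) d from
        Subgroup.mem_centralizer_singleton_iff.1 k.2).zpow_right n).eq

end CfsgLib.Sporadic.FiTransfer23
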