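import Cfsg.Agent.Lib.ThreeTransp.ReflThree

/-!
# Involutions of the seven-dimensional orthogonal group over the field with three elements

An involution all whose products with its conjugates have order at most three modulo signs is a
reflection up to sign.
-/

set_option autoImplicit false
set_option linter.unusedSectionVars false

namespace CfsgLib.Sporadic.FiTransfer23.Ortho

open QuadraticMap Module CfsgLib.Orth CfsgLib.ThreeTransp.ReflThree

local notation "V7" => Fin 7 → ZMod 3

theorem zmod3_cases : ∀ x : ZMod 3, x = 0 ∨ x = 1 ∨ x = -1 := by decide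

theorem neg_ne_self {x : V7} (h : x ≠ 0) : -x ≠ x := fun e => h (by
  have h2 : (2 : ZMod 3) • x = 0 := by
    rw [two_smul]
    calc x + x = -x + x := by rw [e]
      _ = 0 := neg_add_cancel x
  exact (smul_eq_zero.1 h2).resolve_left (by decide))

variable {Q : QuadraticForm (ZMod 3) V7}

variable (Q) in
/-- Minus one. -/
def negE : orthGroup Q := ⟨LinearEquiv.neg (ZMod 3), fun v => QuadraticMap.map_neg Q v⟩

theorem negE_apply (x : V7) : (negE Q).1 x = -x := rfl

theorem mul_apply' (a b : orthGroup Q) (x : V7) : (a * b).1 x = a.1 (b.1 x) := rfl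

theorem negE_sq : negE Q * negE Q = 1 :=
  Subtype.ext (LinearEquiv.ext fun x => neg_neg x)

theorem negE_comm (g : orthGroup Q) : g * negE Q = negE Q * g :=
  Subtype.ext (LinearEquiv.ext fun x => map_neg g.1 x)

/-- Plus or minus one. -/
def IsPM (g : orthGroup Q) : Prop := g = 1 ∨ g = negE Q

theorem IsPM.mul {a b : orthGroup Q} (ha : IsPM a) (hb : IsPM b) : IsPM (a * b) := by
  rcases ha with rfl | rfl <;> rcases hb with rfl | rfl
  · exact Or.inl (one_mul 1)
  · exact Or.inr (one_mul _)
  · exact Or.inr (mul_one _)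
  · exact Or.inl negE_sq

theorem IsPM.comm {a : orthGroup Q} (ha : IsPM a) (g : orthGroup Q) : g * a = a * g := by
  rcases ha with rfl | rfl
  · rw [mul_one, one_mul]
  · exact negE_comm g

theorem IsPM.inv {a : orthGroup Q} (ha : IsPM a) : IsPM a⁻¹ := by
  rcases ha with rfl | rfl
  · exact Or.inl inv_one
  · exact Or.inr (inv_eq_of_mul_eq_one_right negE_sq)

theorem det_negE : LinearMap.det ((negE Q).1 : V7 →ₗ[ZMod 3] V7) = -1 := by
  rw [show ((negE Q).1 : V7 →ₗ[ZMod 3] V7) = (-1 : ZMod 3) • LinearMap.id from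
    LinearMap.ext fun x => by simp [negE_apply], LinearMap.det_smul, LinearMap.det_id, mul_one,
    Module.finrank_fin_fun]
  decide

theorem mul_self_of_pm {t : orthGroup Q} (h : IsPM (t * t)) : t * t = 1 := by
  refine h.resolve_right fun e => ?_
  have h1 := congrArg (fun g : orthGroup Q => LinearMap.det (g.1 : V7 →ₗ[ZMod 3] V7)) e
  simp only [det_negE] at h1
  have h2 : LinearMap.det ((t * t).1 : V7 →ₗ[ZMod 3] V7) =
      LinearMap.det (t.1 : V7 →ₗ[ZMod 3] V7) * LinearMap.det (t.1 : V7 →ₗ[ZMod 3] V7) :=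
    map_mul LinearMap.det (t.1 : V7 →ₗ[ZMod 3] V7) (t.1 : V7 →ₗ[ZMod 3] V7)
  rw [h2] at h1
  generalize LinearMap.det (t.1 : V7 →ₗ[ZMod 3] V7) = x at h1
  revert x
  decide

/-- The vectors taken to their negatives. -/
def minus (t : orthGroup Q) : Submodule (ZMod 3) V7 where
  carrier := {x | t.1 x = -x}
  add_mem' {x y} hx hy := by
    show t.1 (x + y) = -(x + y)
    rw [map_add, hx, hy, neg_add]
  zero_mem' := by simp
  smul_mem' k x hx := by
    show t.1 (k • x) = -(k • x)
    rw [map_smul, hx, smul_neg]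

/-- The fixed vectors. -/
def plus (t : orthGroup Q) : Submodule (ZMod 3) V7 where
  carrier := {x | t.1 x = x}
  add_mem' {x y} hx hy := by
    show t.1 (x + y) = x + y
    rw [map_add, hx, hy]
  zero_mem' := by simp
  smul_mem' k x hx := by
    show t.1 (k • x) = k • x
    rw [map_smul, hx]

variable {t : orthGroup Q}

theorem orth_minus_plus {x y : V7} (hx : x ∈ minus t) (hy : y ∈ plus t) : polar Q x y = 0 := by
  have h := polar_isom t x y
  rw [show t.1 x = -x from hx, show t.1 y = y from hy, polar_neg_left] at h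
  generalize polar Q x y = z at h
  revert z
  decide

theorem decomp (ht : t * t = 1) (x : V7) :
    ∃ a ∈ minus t, ∃ b ∈ plus t, a + b = x := by
  have htt : t.1 (t.1 x) = x := congrArg (fun g : orthGroup Q => g.1 x) ht
  refine ⟨(2 : ZMod 3) • (x - t.1 x), ?_, (2 : ZMod 3) • (x + t.1 x), ?_, ?_⟩
  · show t.1 _ = -_
    rw [map_smul, map_sub, htt, ← smul_neg, neg_sub]
  · show t.1 _ = _
    rw [map_smul, map_add, htt, add_comm]
  · rw [← smul_add, show x - t.1 x + (x + t.1 x) = (2 : ZMod 3) • x by rw [two_smul]; abel,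
      smul_smul, show (2 : ZMod 3) * 2 = 1 by decide, one_smul]

theorem finrank_add (ht : t * t = 1) :
    finrank (ZMod 3) (minus t) + finrank (ZMod 3) (plus t) = 7 := by
  have hd : minus t ⊓ plus t = ⊥ := by
    refine (Submodule.eq_bot_iff _).2 fun x hx => by_contra fun h0 => neg_ne_self h0 ?_
    exact hx.1.symm.trans hx.2
  have hs : minus t ⊔ plus t = ⊤ := by
    refine Submodule.eq_top_iff'.2 fun x => ?_
    obtain ⟨a, ha, b, hb, rfl⟩ := decomp ht x
    exact add_mem (Submodule.mem_sup_left ha) (Submodule.mem_sup_right hb)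
  have := Submodule.finrank_sup_add_finrank_inf_eq (minus t) (plus t)
  rw [hs, hd, finrank_top, finrank_bot, Module.finrank_fin_fun] at this
  omega

variable (hQ : (polarBilin Q).Nondegenerate)
include hQ

theorem minus_nondeg (ht : t * t = 1) {x : V7} (hx : x ∈ minus t)
    (h : ∀ y ∈ minus t, polar Q x y = 0) : x = 0 :=
  eq_zero_of_polar hQ fun w => by
    obtain ⟨a, ha, b, hb, rfl⟩ := decomp ht w
    rw [polar_add_right, h a ha, orth_minus_plus hx hb, add_zero]

theorem plus_nondeg (ht : t * t = 1) {x : V7} (hx : x ∈ plus t)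
    (h : ∀ y ∈ plus t, polar Q x y = 0) : x = 0 :=
  eq_zero_of_polar hQ fun w => by
    obtain ⟨a, ha, b, hb, rfl⟩ := decomp ht w
    rw [polar_add_right, h b hb, polar_comm, orth_minus_plus ha hx, add_zero]

omit hQ in
/-- A subspace whose vectors are all singular has zero polar form. -/
theorem polar_of_singular {W : Submodule (ZMod 3) V7} (h : ∀ x ∈ W, Q x = 0) {x y : V7}
    (hx : x ∈ W) (hy : y ∈ W) : polar Q x y = 0 := by
  simp [polar, h x hx, h y hy, h _ (add_mem hx hy)]

omit hQ in
/-- The part of a subspace orthogonal to a vector. -/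
def cut (W : Submodule (ZMod 3) V7) (a : V7) : Submodule (ZMod 3) V7 :=
  W ⊓ LinearMap.ker (polarBilin Q a)

omit hQ in
theorem finrank_cut (W : Submodule (ZMod 3) V7) (a : V7) :
    finrank (ZMod 3) W ≤ finrank (ZMod 3) (cut (Q := Q) W a) + 1 := by
  have h1 := Submodule.finrank_sup_add_finrank_inf_eq W (LinearMap.ker (polarBilin Q a))
  have h2 := LinearMap.finrank_range_add_finrank_ker (polarBilin Q a)
  have h3 : finrank (ZMod 3) (LinearMap.range (polarBilin Q a)) ≤ 1 :=
    (Submodule.finrank_le _).trans (by rw [Module.finrank_self])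
  have h4 := Submodule.finrank_le (W ⊔ LinearMap.ker (polarBilin Q a))
  rw [Module.finrank_fin_fun] at h2 h4
  show _ ≤ finrank (ZMod 3) ↥(W ⊓ LinearMap.ker (polarBilin Q a)) + 1
  omega

omit hQ in
theorem cut_nondeg {W : Submodule (ZMod 3) V7} (hW : ∀ x ∈ W, (∀ y ∈ W, polar Q x y = 0) → x = 0)
    {a : V7} (ha : a ∈ W) (hQa : Q a ≠ 0) {x : V7} (hx : x ∈ cut (Q := Q) W a)
    (h : ∀ y ∈ cut (Q := Q) W a, polar Q x y = 0) : x = 0 := by
  refine hW x hx.1 fun y hy => ?_
  have h2 : (2 : ZMod 3) * Q a ≠ 0 := mul_ne_zero (by decide) hQa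
  set k := (2 * Q a)⁻¹ * polar Q a y with hk
  have hmem : y - k • a ∈ cut (Q := Q) W a := by
    refine ⟨sub_mem hy (W.smul_mem k ha), ?_⟩
    show polar Q a (y - k • a) = 0
    rw [polar_sub_right, polar_smul_r', polar_self', hk, mul_comm _ (2 * Q a), ← mul_assoc,
      mul_inv_cancel₀ h2, one_mul, sub_self]
  have := h _ hmem
  have hxa : polar Q x a = 0 := by rw [polar_comm]; exact hx.2
  rwa [polar_sub_right, polar_smul_r', hxa, mul_zero, sub_zero] at this

omit hQ in
theorem exists_aniso {W : Submodule (ZMod 3) V7} (hW : ∀ x ∈ W, (∀ y ∈ W, polar Q x y = 0) → x = 0)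
    (h0 : 1 ≤ finrank (ZMod 3) W) : ∃ x ∈ W, Q x ≠ 0 := by
  by_contra h
  push Not at h
  have : W = ⊥ := (Submodule.eq_bot_iff _).2 fun x hx =>
    hW x hx fun y hy => polar_of_singular h hx hy
  rw [this, finrank_bot] at h0
  omega

omit hQ in
theorem exists_norm {W : Submodule (ZMod 3) V7} (hW : ∀ x ∈ W, (∀ y ∈ W, polar Q x y = 0) → x = 0)
    (h0 : 2 ≤ finrank (ZMod 3) W) (q : ZMod 3) : ∃ x ∈ W, Q x = q := by
  refine exists_value (Q := Q) W ?_ q
  have : W ⊓ LinearMap.BilinForm.orthogonal (QuadraticMap.polarBilin Q) W = ⊥ :=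
    (Submodule.eq_bot_iff _).2 fun x hx => hW x hx.1 fun y hy => by
      rw [polar_comm]; exact hx.2 y hy
  rw [this, finrank_bot]
  omega

/-- The trichotomy for an involution with a small negative space. -/
theorem small_case (ht : t * t = 1) (hk : finrank (ZMod 3) (minus t) ≤ 3)
    (h3 : ∀ g : orthGroup Q, IsPM ((t * (g * t * g⁻¹)) ^ 2) ∨ IsPM ((t * (g * t * g⁻¹)) ^ 3)) :
    t = 1 ∨ ∃ v, Q v ≠ 0 ∧ t = refl Q v := by
  have hU : ∀ x ∈ minus t, (∀ y ∈ minus t, polar Q x y = 0) → x = 0 :=
    fun x hx h => minus_nondeg hQ ht hx h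
  have hP : ∀ x ∈ plus t, (∀ y ∈ plus t, polar Q x y = 0) → x = 0 :=
    fun x hx h => plus_nondeg hQ ht hx h
  rcases Nat.eq_zero_or_pos (finrank (ZMod 3) (minus t)) with h0 | h0
  · left
    have hb : minus t = ⊥ := Submodule.finrank_eq_zero.1 h0
    refine Subtype.ext (LinearEquiv.ext fun x => ?_)
    obtain ⟨a, ha, b, hb', rfl⟩ := decomp ht x
    rw [hb, Submodule.mem_bot] at ha
    rw [ha, zero_add]
    exact hb'
  obtain ⟨u₁, hu₁, hq₁⟩ := exists_aniso hU h0
  by_cases h1 : finrank (ZMod 3) (minus t) = 1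
  · refine Or.inr ⟨u₁, hq₁, Subtype.ext (LinearEquiv.ext fun x => ?_)⟩
    obtain ⟨a, ha, b, hb, rfl⟩ := decomp ht x
    have hspan : minus t = Submodule.span (ZMod 3) {u₁} := by
      refine (Submodule.eq_of_le_of_finrank_eq ?_ ?_).symm
      · rw [Submodule.span_singleton_le_iff_mem]; exact hu₁
      · rw [h1, finrank_span_singleton fun e => hq₁ (by rw [e, QuadraticMap.map_zero])]
    obtain ⟨k, rfl⟩ := Submodule.mem_span_singleton.1 (hspan ▸ ha)
    rw [map_add, map_add, show t.1 (k • u₁) = -(k • u₁) from ha, show t.1 b = b from hb,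
      map_smul (refl Q u₁).1, refl_self Q hq₁, smul_neg,
      refl_fix Q (orth_minus_plus hu₁ hb)]
  exfalso
  have hUd := finrank_cut (Q := Q) (minus t) u₁
  obtain ⟨u₂, hu₂, hq₂⟩ := exists_aniso (W := cut (Q := Q) (minus t) u₁)
    (fun x hx h => cut_nondeg hU hu₁ hq₁ hx h) (by omega)
  have hdimP := finrank_add ht
  obtain ⟨p, hp, hqp⟩ := exists_norm hP (by omega) (Q u₁)
  have hPd := finrank_cut (Q := Q) (plus t) p
  have hqp0 : Q p ≠ 0 := hqp ▸ hq₁
  have hcut : ∀ x ∈ cut (Q := Q) (plus t) p, (∀ y ∈ cut (Q := Q) (plus t) p, polar Q x y = 0) → x = 0 :=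
    fun x hx h => cut_nondeg hP hp hqp0 hx h
  obtain ⟨x, hx, hqx⟩ := exists_aniso hcut (by omega)
  have hWd := finrank_cut (Q := Q) (cut (Q := Q) (plus t) p) x
  obtain ⟨y, hy, hqy⟩ := exists_norm (W := cut (Q := Q) (cut (Q := Q) (plus t) p) x)
    (fun z hz h => cut_nondeg hcut hx hqx hz h) (by omega) (-Q x)
  set s := x + y with hs
  have hxy : polar Q x y = 0 := hy.2
  have hs0 : s ≠ 0 := by
    intro e
    have : polar Q x s = 0 := by rw [e, polar_zero_right]
    rw [hs, polar_add_right, hxy, add_zero, polar_self'] at this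
    exact hqx ((mul_eq_zero.1 this).resolve_left (by decide))
  have hsP : s ∈ plus t := add_mem hx.1 hy.1.1
  have hps : polar Q p s = 0 := by
    have h1 : polar Q p x = 0 := hx.2
    have h2 : polar Q p y = 0 := hy.1.2
    rw [hs, polar_add_right, h1, h2, add_zero]
  have hQs : Q s = 0 := by rw [hs, quad_add', hqy, hxy]; ring
  have o12 : polar Q u₁ u₂ = 0 := hu₂.2
  have ou₁p : polar Q u₁ p = 0 := orth_minus_plus hu₁ hp
  have ou₁s : polar Q u₁ s = 0 := orth_minus_plus hu₁ hsP
  have ou₂p : polar Q u₂ p = 0 := orth_minus_plus hu₂.1 hp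
  have ou₂s : polar Q u₂ s = 0 := orth_minus_plus hu₂.1 hsP
  set a := u₂ + s with ha
  set b := u₁ - p with hb
  have hQa : Q a = Q u₂ := by rw [ha, quad_add', hQs, ou₂s, add_zero, add_zero]
  have hQb : Q b ≠ 0 := by
    rw [hb, sub_eq_add_neg, quad_add', QuadraticMap.map_neg, polar_neg_right, ou₁p, hqp]
    generalize Q u₁ = z at hq₁
    revert z
    decide
  have rb_u₁ : (refl Q b).1 u₁ = p := refl_sub_apply Q hqp.symm hQb
  have rb_p : (refl Q b).1 p = u₁ := by
    rw [← rb_u₁]
    exact congrArg (fun g : orthGroup Q => g.1 u₁) (refl_mul_self Q b)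
  have rb_fix : ∀ z, polar Q u₁ z = 0 → polar Q p z = 0 → (refl Q b).1 z = z := fun z h1 h2 => by
    refine refl_fix Q ?_
    rw [hb, polar_sub_left, h1, h2, sub_zero]
  have ra_fix : ∀ z, polar Q u₂ z = 0 → polar Q s z = 0 → (refl Q a).1 z = z := fun z h1 h2 => by
    refine refl_fix Q ?_
    rw [ha, polar_add_left, h1, h2, add_zero]
  have hss : polar Q s s = 0 := by rw [polar_self', hQs, mul_zero]
  have ra_u₁ : (refl Q a).1 u₁ = u₁ :=
    ra_fix _ (by rw [polar_comm]; exact o12) (by rw [polar_comm]; exact ou₁s)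
  have ra_p : (refl Q a).1 p = p := ra_fix _ ou₂p (by rw [polar_comm]; exact hps)
  have ra_s : (refl Q a).1 s = s := ra_fix _ ou₂s hss
  have rb_s : (refl Q b).1 s = s := rb_fix _ ou₁s hps
  have rb_u₂ : (refl Q b).1 u₂ = u₂ := rb_fix _ o12 (by rw [polar_comm]; exact ou₂p)
  have ra_u₂ : (refl Q a).1 u₂ = -u₂ + s := by
    rw [refl_apply, hQa, ha, polar_add_left, polar_self', polar_comm (⇑Q) s, ou₂s, add_zero,
      show (Q u₂)⁻¹ * (2 * Q u₂) = 2 by field_simp]
    match_scalars <;> decide
  have tu₁ : t.1 u₁ = -u₁ := hu₁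
  have tu₂ : t.1 u₂ = -u₂ := hu₂.1
  have tp : t.1 p = p := hp
  have ts : t.1 s = s := hsP
  set g := refl Q b * refl Q a with hg
  set P := t * (g * t * g⁻¹) with hPdef
  have hPapp : ∀ z, P.1 z =
      t.1 ((refl Q b).1 ((refl Q a).1 (t.1 ((refl Q a).1 ((refl Q b).1 z))))) := fun z => by
    simp only [hPdef, hg, mul_inv_rev, refl_inv, mul_apply']
  have Pu₁ : P.1 u₁ = -u₁ := by rw [hPapp, rb_u₁, ra_p, tp, ra_p, rb_p, tu₁]
  have Ps : P.1 s = s := by rw [hPapp, rb_s, ra_s, ts, ra_s, rb_s, ts]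
  have Pu₂ : P.1 u₂ = u₂ - s := by
    have hss2 : s + s = -s := by
      rw [← two_smul (ZMod 3), show (2 : ZMod 3) = -1 by decide, neg_one_smul]
    simp only [hPapp, rb_u₂, ra_u₂, map_add, map_neg, tu₂, ts, neg_neg, ra_s, rb_s]
    rw [sub_eq_add_neg, ← hss2]
    abel
  have pow2 : ∀ z, (P ^ 2).1 z = P.1 (P.1 z) := fun z => by rw [pow_two, mul_apply']
  have pow3 : ∀ z, (P ^ 3).1 z = P.1 (P.1 (P.1 z)) := fun z => by
    rw [pow_succ', mul_apply', pow2]
  have hu₁0 : u₁ ≠ 0 := fun e => hq₁ (by rw [e, QuadraticMap.map_zero])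
  rcases h3 g with (e | e) | (e | e)
  · have := pow2 u₂
    rw [e, Pu₂, map_sub, Pu₂, Ps] at this
    change u₂ = _ at this
    refine hs0 ?_
    have h2 : (2 : ZMod 3) • s = 0 := by
      calc (2 : ZMod 3) • s = u₂ - (u₂ - s - s) := by rw [two_smul]; abel
        _ = 0 := by rw [← this, sub_self]
    exact (smul_eq_zero.1 h2).resolve_left (by decide)
  · have := pow2 s
    rw [e, Ps, Ps, negE_apply] at this
    exact neg_ne_self hs0 this
  · have := pow3 u₁
    rw [e, Pu₁, map_neg, Pu₁, neg_neg, Pu₁] at this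
    change u₁ = -u₁ at this
    exact neg_ne_self hu₁0 this.symm
  · have := pow3 s
    rw [e, Ps, Ps, Ps, negE_apply] at this
    exact neg_ne_self hs0 this

/-- An involution modulo signs with small products with its conjugates is a reflection up to sign. -/
theorem classify (hne : ¬ IsPM t) (h2 : IsPM (t * t))
    (h3 : ∀ g : orthGroup Q, IsPM ((t * (g * t * g⁻¹)) ^ 2) ∨ IsPM ((t * (g * t * g⁻¹)) ^ 3)) :
    ∃ v, Q v ≠ 0 ∧ (t = refl Q v ∨ t = negE Q * refl Q v) := by
  have ht := mul_self_of_pm h2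
  by_cases hk : finrank (ZMod 3) (minus t) ≤ 3
  · rcases small_case hQ ht hk h3 with e | ⟨v, hv, e⟩
    · exact absurd (Or.inl e) hne
    · exact ⟨v, hv, Or.inl e⟩
  set t' := negE Q * t with ht'def
  have ht' : t' * t' = 1 := by
    rw [ht'def, ← mul_assoc, mul_assoc (negE Q) t, negE_comm, ← mul_assoc, negE_sq, one_mul, ht]
  have hminus : minus t' = plus t := by
    ext x
    show (negE Q).1 (t.1 x) = -x ↔ t.1 x = x
    rw [negE_apply]
    exact neg_inj
  have hd := finrank_add ht
  have hP : ∀ g : orthGroup Q, t' * (g * t' * g⁻¹) = t * (g * t * g⁻¹) := fun g => by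
    have e1 : g * t' * g⁻¹ = negE Q * (g * t * g⁻¹) := by
      rw [ht'def, ← mul_assoc, negE_comm]; simp only [mul_assoc]
    rw [e1, ht'def, mul_assoc, ← mul_assoc t, negE_comm t, mul_assoc, ← mul_assoc, negE_sq, one_mul]
  rcases small_case hQ ht' (by rw [hminus]; omega) (fun g => by rw [hP]; exact h3 g) with e | ⟨v, hv, e⟩
  · refine absurd (Or.inr ?_) hne
    rw [← one_mul t, ← negE_sq, mul_assoc, ← ht'def, e, mul_one]
  · refine ⟨v, hv, Or.inr ?_⟩
    rw [← e, ht'def, ← mul_assoc, negE_sq, one_mul]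

omit hQ in
/-- A reflection fixes a hyperplane, so it is not minus another one. -/
theorem refl_ne_neg (a b : V7) : refl Q a ≠ negE Q * refl Q b := by
  intro e
  have h1 := finrank_cut (Q := Q) (cut (Q := Q) ⊤ a) b
  have h2 := finrank_cut (Q := Q) (⊤ : Submodule (ZMod 3) V7) a
  rw [finrank_top, Module.finrank_fin_fun] at h2
  have hne : cut (Q := Q) (cut (Q := Q) ⊤ a) b ≠ ⊥ := fun e => by
    rw [e, finrank_bot] at h1; omega
  obtain ⟨x, hx, hx0⟩ := Submodule.exists_mem_ne_zero_of_ne_bot hne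
  have := congrArg (fun g : orthGroup Q => g.1 x) e
  simp only [mul_apply', negE_apply, refl_fix Q (show polar Q a x = 0 from hx.1.2),
    refl_fix Q (show polar Q b x = 0 from hx.2)] at this
  exact neg_ne_self hx0 this.symm

omit hQ in
/-- Equal reflections have equal lines. -/
theorem line_of_refl_eq {a b : V7} (ha : Q a ≠ 0) (hb : Q b ≠ 0) (e : refl Q a = refl Q b) :
    a = b ∨ a = -b := by
  have h := refl_self Q ha
  rw [e, refl_apply] at h
  set k := (Q b)⁻¹ * polar Q b a
  have h2 : (2 : ZMod 3) • a = k • b := by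
    calc (2 : ZMod 3) • a = a - -a := by rw [two_smul, sub_neg_eq_add]
      _ = a - (a - k • b) := by rw [h]
      _ = k • b := by abel
  have h3 : a = ((2 : ZMod 3) * k) • b := by
    rw [mul_smul, ← h2, smul_smul, show (2 : ZMod 3) * 2 = 1 by decide, one_smul]
  rcases zmod3_cases ((2 : ZMod 3) * k) with e0 | e0 | e0
  · rw [e0, zero_smul] at h3
    exact absurd (by rw [h3, QuadraticMap.map_zero]) ha
  · exact Or.inl (by rw [h3, e0, one_smul])
  · exact Or.inr (by rw [h3, e0, neg_one_smul])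

omit hQ in
theorem refl_neg (a : V7) : refl Q (-a) = refl Q a := by
  rw [← neg_one_smul (ZMod 3) a]
  exact refl_smul Q (by decide) a

/-- An element commuting with all reflections of one norm is plus or minus one. -/
theorem pm_of_comm {c : ZMod 3} (hc : c ≠ 0) {z : orthGroup Q}
    (h : ∀ v, Q v = c → z * refl Q v = refl Q v * z) : IsPM z := by
  have hline : ∀ v, Q v = c → z.1 v = v ∨ z.1 v = -v := fun v hv => by
    refine line_of_refl_eq (by rw [apply_quad, hv]; exact hc) (by rw [hv]; exact hc) ?_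
    rw [← conj_refl, h v hv, mul_inv_cancel_right]
  have step : ∀ u v, Q u = c → Q v = c → polar Q u v ≠ 0 → z.1 u = u → z.1 v = v := by
    intro u v hu hv hp he
    refine (hline v hv).resolve_right fun e => ?_
    have h1 := polar_isom z u v
    rw [he, e, polar_neg_right] at h1
    generalize polar Q u v = r at hp h1
    revert r
    decide
  have all_one : ∀ u v, Q u = c → Q v = c → z.1 u = u → z.1 v = v := by
    intro u v hu hv he
    by_cases hp : polar Q u v = 0
    swap
    · exact step u v hu hv hp he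
    obtain ⟨x, hux, hvx, hx⟩ :=
      exists_perp_value hQ (by norm_num) (a := u) (by rw [hu]; exact hc) v (-c)
    have h3 : (2 : ZMod 3) * c ≠ 0 := mul_ne_zero (by decide) hc
    set w := u + v + x with hw'
    have hw : Q w = c := by
      rw [hw', quad_add', quad_add', polar_add_left, hu, hv, hp, hux, hvx, hx]
      ring
    have h1 : polar Q u w ≠ 0 := by
      rw [hw', polar_add_right, polar_add_right, hp, hux, polar_self', hu, add_zero, add_zero]
      exact h3
    have h2 : polar Q w v ≠ 0 := by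
      rw [polar_comm, hw', polar_add_right, polar_add_right, polar_comm (⇑Q) v u, hp, hvx,
        polar_self', hv, add_zero, zero_add]
      exact h3
    exact step w v hw hv h2 (step u w hu hw h1 he)
  have hspan : ∀ z' : orthGroup Q, (∀ v, Q v = c → z'.1 v = v) → z' = 1 := by
    intro z' hz'
    refine Subtype.ext (LinearEquiv.ext fun y => ?_)
    show z'.1 y = y
    rw [← sub_eq_zero]
    set x := z'.1 y - y with hx
    have hperp : ∀ v, Q v = c → polar Q x v = 0 := fun v hv => by
      have h1 := polar_isom z' y v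
      rw [hz' v hv] at h1
      rw [hx, polar_sub_left, h1, sub_self]
    by_contra hx0
    obtain ⟨w, -, hw1⟩ := exists_polar_one hQ (W := ⊥) (x := x) (by simpa using hx0)
    rw [polar_comm] at hw1
    by_cases hQx : Q x = 0
    · set w' := w + (1 - Q w) • x with hw'
      have hq : Q w' = 1 := by
        rw [hw', quad_add', quad_smul', polar_smul_r', hQx, polar_comm (⇑Q) w x, hw1]; ring
      have hp : polar Q x w' = 1 := by
        rw [hw', polar_add_right, polar_smul_r', polar_self', hQx, hw1]; ring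
      obtain ⟨u, h1, h2, h3⟩ := exists_perp_value hQ (by norm_num) (a := w')
        (by rw [hq]; decide) x (c - 1)
      have := hperp (w' + u) (by rw [quad_add', hq, h3, h1]; ring)
      rw [polar_add_right, hp, h2, add_zero] at this
      exact one_ne_zero this
    · obtain ⟨u, h1, h2, h3⟩ := exists_perp_value hQ (by norm_num) (a := x) hQx w (c - Q w)
      have := hperp (w + u) (by rw [quad_add', h3, h2]; ring)
      rw [polar_add_right, hw1, h1, add_zero] at this
      exact one_ne_zero this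
  obtain ⟨v₀, hv₀⟩ : ∃ v, Q v = c := by
    obtain ⟨v, -, hv⟩ := exists_norm (Q := Q) (W := ⊤) (fun x _ h => eq_zero_of_polar hQ fun w => h w trivial)
      (by rw [finrank_top, Module.finrank_fin_fun]; norm_num) c
    exact ⟨v, hv⟩
  rcases hline v₀ hv₀ with e | e
  · exact Or.inl (hspan z fun v hv => all_one v₀ v hv₀ hv e)
  · right
    have : negE Q * z = 1 := hspan _ fun v hv => by
      rw [mul_apply', negE_apply]
      rcases hline v hv with e' | e'
      · have := all_one v v₀ hv hv₀ e'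
        rw [this] at e
        exact absurd e.symm (neg_ne_self fun e0 => hc (by rw [← hv₀, e0, QuadraticMap.map_zero]))
      · rw [e', neg_neg]
    calc z = negE Q * negE Q * z := by rw [negE_sq, one_mul]
      _ = negE Q := by rw [mul_assoc, this, mul_one]

end CfsgLib.Sporadic.FiTransfer23.Ortho
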