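import Cfsg.Agent.Lib.Sporadic.FiTransfer23.Involution.PairStab
import Cfsg.Agent.Lib.ThreeTransp.Indep.Factor
import Cfsg.Agent.Lib.Components.Quasisimple

/-!
# The centralizer of a product of two commuting members in a group with the Fi23 model
-/

set_option autoImplicit false
set_option maxRecDepth 100000

open Cfsg.Spor

namespace CfsgLib.Sporadic.FiTransfer23

open CosetCert CosetCert.Fi23P Involution
open Two (dp)
open ThreeTransp

variable {G : Type*} [Group G] {D : Set G}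

/-- An isomorphism carrying two commuting members to the two fixed transpositions. -/
theorem exists_adapted (h : ModelIso G D) {d₁ d₂ : G} (h₁ : d₁ ∈ D) (h₂ : d₂ ∈ D) (hne : d₁ ≠ d₂)
    (hc : Commute d₁ d₂) :
    ∃ e : G ≃* Fi23, e '' D = classTr ∧ e d₁ = tr ∧ e d₂ = dp qpt := by
  obtain ⟨e, he⟩ := h
  obtain ⟨g, g1, g2⟩ := pair_std ((mem_iff_of_image e he).1 h₁) ((mem_iff_of_image e he).1 h₂)
    (e.injective.ne hne) (hc.map e.toMonoidHom)
  refine ⟨e.trans (MulAut.conj g), ?_, g1, g2⟩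
  rw [MulEquiv.coe_trans, Set.image_comp, he]
  refine Set.Subset.antisymm ?_ fun y hy => ⟨g⁻¹ * y * g, ?_, ?_⟩
  · rintro _ ⟨y, hy, rfl⟩
    exact classTr_conj hy
  · simpa using classTr_conj (g := g⁻¹) hy
  · show g * (g⁻¹ * y * g) * g⁻¹ = y
    group

/-- The centralizer of two commuting members: quasisimple, with the four-group as centre and
U6(2) as quotient. -/
theorem pair_stab (h : ModelIso G D) (d₁ d₂ : G) (h₁ : d₁ ∈ D) (h₂ : d₂ ∈ D) (hne : d₁ ≠ d₂)
    (hc : Commute d₁ d₂) (K : Subgroup G) (hK : K = Subgroup.centralizer ({d₁, d₂} : Set G)) :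
    (Subgroup.center ↥K).map K.subtype = Subgroup.closure ({d₁, d₂} : Set G) ∧
      Cfsg.IsQuasisimple ↥K ∧
      Nonempty (↥K ⧸ Subgroup.center ↥K ≃* Cfsg.PSU 6 FieldFour 2) := by
  obtain ⟨e, -, e1, e2⟩ := exists_adapted h h₁ h₂ hne hc
  have hmem : ∀ g, g ∈ K ↔ e g ∈ stab := fun g => by
    rw [hK, Subgroup.mem_centralizer_iff, mem_stab, ← e1, ← e2, commute_iff, commute_iff]
    simp only [Set.mem_insert_iff, Set.mem_singleton_iff, forall_eq_or_imp, forall_eq]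
    exact and_congr ⟨fun h => h.symm, fun h => h.symm⟩ ⟨fun h => h.symm, fun h => h.symm⟩
  have himg : K.map e.toMonoidHom = stab := by
    ext y
    obtain ⟨x, rfl⟩ := e.surjective y
    exact (Subgroup.mem_map_iff_mem e.injective).trans (hmem x)
  let ι : ↥K ≃* ↥stab := (e.subgroupMap K).trans (MulEquiv.subgroupCongr himg)
  have hι : ∀ x : K, ((ι x : stab) : Fi23) = e x.1 := fun _ => rfl
  let φ : ↥K →* Cfsg.PSU 6 FieldFour 2 := toPSU.comp ι.toMonoidHom
  have hφs : Function.Surjective φ := toPSU_surjective.comp ι.surjective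
  have hd₁ : d₁ ∈ K := (hmem d₁).2 (e1 ▸ tr_stab)
  have hd₂ : d₂ ∈ K := (hmem d₂).2 (e2 ▸ dq_stab)
  have := FiP.simple_PSU6
  have hker : φ.ker = Subgroup.center ↥K := by
    apply le_antisymm
    · intro z hz
      rw [Subgroup.mem_center_iff]
      intro k
      refine ι.injective (Subtype.ext ?_)
      rw [map_mul, map_mul, Subgroup.coe_mul, Subgroup.coe_mul]
      obtain ⟨hk1, hk2⟩ := mem_stab.1 (ι k).2
      rcases ker_cases (MonoidHom.mem_ker.1 hz : toPSU (ι z) = 1) with e' | e' | e' | e' <;> rw [e']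
      · rw [one_mul, mul_one]
      · exact hk1.eq
      · exact hk2.eq
      · exact (hk1.mul_right hk2).eq
    · intro z hz
      rw [MonoidHom.mem_ker]
      rcases this.eq_bot_or_eq_top_of_normal (Subgroup.center (Cfsg.PSU 6 FieldFour 2)) inferInstance
        with e' | e'
      · rw [← Subgroup.mem_bot, ← e', Subgroup.mem_center_iff]
        intro x
        obtain ⟨y, rfl⟩ := hφs x
        rw [← map_mul, ← map_mul, Subgroup.mem_center_iff.1 hz y]
      · exfalso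
        let : CommGroup (Cfsg.PSU 6 FieldFour 2) :=
          { (inferInstance : Group (Cfsg.PSU 6 FieldFour 2)) with
            mul_comm := fun x y => Subgroup.mem_center_iff.1
              (show y ∈ Subgroup.center (Cfsg.PSU 6 FieldFour 2) from e' ▸ Subgroup.mem_top y) x }
        have hp : (Nat.card (Cfsg.PSU 6 FieldFour 2)).Prime := IsSimpleGroup.prime_card
        rw [FiP.card_PSU6] at hp
        norm_num at hp
  have hd₁c : (⟨d₁, hd₁⟩ : K) ∈ φ.ker := by
    rw [MonoidHom.mem_ker]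
    exact (congrArg toPSU (Subtype.ext ((hι _).trans e1))).trans tr_ker
  have hd₂c : (⟨d₂, hd₂⟩ : K) ∈ φ.ker := by
    rw [MonoidHom.mem_ker]
    exact (congrArg toPSU (Subtype.ext ((hι _).trans e2))).trans dq_ker
  let f : ↥K ⧸ Subgroup.center ↥K ≃* Cfsg.PSU 6 FieldFour 2 :=
    (QuotientGroup.quotientMulEquivOfEq hker.symm).trans
      (QuotientGroup.quotientKerEquivOfSurjective φ hφs)
  refine ⟨le_antisymm ?_ ?_, ⟨?_, f.isSimpleGroup⟩, ⟨f⟩⟩
  · rintro _ ⟨z, hz, rfl⟩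
    have m1 : d₁ ∈ Subgroup.closure ({d₁, d₂} : Set G) := Subgroup.subset_closure (by simp)
    have m2 : d₂ ∈ Subgroup.closure ({d₁, d₂} : Set G) := Subgroup.subset_closure (by simp)
    show (z : G) ∈ Subgroup.closure ({d₁, d₂} : Set G)
    have hz' : z ∈ φ.ker := by rw [hker]; exact hz
    rcases ker_cases (MonoidHom.mem_ker.1 hz' : toPSU (ι z) = 1) with e' | e' | e' | e' <;>
      rw [hι] at e'
    · rw [e.injective (e'.trans (map_one e).symm)]; exact one_mem _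
    · rw [e.injective (e'.trans e1.symm)]; exact m1
    · rw [e.injective (e'.trans e2.symm)]; exact m2
    · have e3 : (z : G) = d₁ * d₂ := e.injective (by rw [e', map_mul, e1, e2])
      rw [e3]; exact mul_mem m1 m2
  · rw [Subgroup.closure_le]
    rintro x (rfl | rfl)
    exacts [⟨_, hker ▸ hd₁c, rfl⟩, ⟨_, hker ▸ hd₂c, rfl⟩]
  · refine Group.isPerfect_def.2 ?_
    have h1 : (commutator ↥K).map ι.toMonoidHom = ⊤ := by
      rw [map_commutator_eq, MonoidHom.range_eq_top.2 ι.surjective, ← commutator_def, commutator_stab]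
    exact Subgroup.map_injective (f := ι.toMonoidHom) ι.injective
      (h1.trans (Subgroup.map_top_of_surjective _ ι.surjective).symm)

/-- The conclusion of the statement on the centralizer of a product of two commuting members. -/
theorem pair_centralizer (h : ModelIso G D) (hG : Cfsg.IsThreeTranspositionGroup D)
    (hI : Indep.Ind D 6) (d₁ d₂ : G) (h₁ : d₁ ∈ D) (h₂ : d₂ ∈ D) (hne : d₁ ≠ d₂)
    (hc : Commute d₁ d₂) (K C V : Subgroup G) (hK : K = Subgroup.centralizer ({d₁, d₂} : Set G))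
    (hC : C = Subgroup.centralizer ({d₁ * d₂} : Set G))
    (hV : V = Subgroup.closure ({d₁, d₂} : Set G)) [hn : (V.subgroupOf C).Normal] :
    K ≤ C ∧ (K.subgroupOf C).index = 2 ∧ (Subgroup.center ↥K).map K.subtype = V ∧
      Cfsg.IsQuasisimple ↥K ∧
      (∃ (F : Type) (_ : Field F) (_ : Fintype F), Fintype.card F = 4 ∧
        Nonempty (↥K ⧸ Subgroup.center ↥K ≃* Cfsg.PSU 6 F 2)) ∧
      Subgroup.center (↥C ⧸ V.subgroupOf C) = ⊥ := by
  obtain ⟨hcen, hq, hf⟩ := pair_stab h d₁ d₂ h₁ h₂ hne hc K hK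
  rw [← hV] at hcen
  have memK : ∀ g : G, g ∈ K ↔ g * d₁ * g⁻¹ = d₁ ∧ g * d₂ * g⁻¹ = d₂ := fun g => by
    rw [hK]
    simp only [Subgroup.mem_centralizer_iff, Set.mem_insert_iff, Set.mem_singleton_iff,
      forall_eq_or_imp, forall_eq, mul_inv_eq_iff_eq_mul]
    exact and_congr eq_comm eq_comm
  have memC : ∀ g : G, g ∈ C ↔ (g * d₁ * g⁻¹ = d₁ ∧ g * d₂ * g⁻¹ = d₂) ∨
      (g * d₁ * g⁻¹ = d₂ ∧ g * d₂ * g⁻¹ = d₁) := by
    intro g
    rw [hC, Subgroup.mem_centralizer_singleton_iff]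
    constructor
    · intro hg
      have hne' : g * d₁ * g⁻¹ ≠ g * d₂ * g⁻¹ := fun e => hne (mul_left_cancel (mul_right_cancel e))
      have hc' : Commute (g * d₁ * g⁻¹) (g * d₂ * g⁻¹) := (Commute.conj_iff g).2 hc
      rcases Indep.same_or_disjoint hG hI (m := 2) (by norm_num) (by norm_num)
          (l := [g * d₁ * g⁻¹, g * d₂ * g⁻¹]) (l' := [d₁, d₂])
          ⟨by simp [hne'], rfl, by simp [hG.2.1 g d₁ h₁, hG.2.1 g d₂ h₂], by simp [hc', hc'.symm]⟩
          ⟨by simp [hne], rfl, by simp [h₁, h₂], by simp [hc, hc.symm]⟩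
          (by
            simp only [List.prod_cons, List.prod_nil, mul_one]
            calc g * d₁ * g⁻¹ * (g * d₂ * g⁻¹) = g * (d₁ * d₂) * g⁻¹ := by group
              _ = d₁ * d₂ := by rw [hg, mul_inv_cancel_right]) with hs | ⟨hlt, -⟩
      · have ha := (hs (g * d₁ * g⁻¹)).1 (by simp)
        have hb := (hs (g * d₂ * g⁻¹)).1 (by simp)
        simp only [List.mem_cons, List.not_mem_nil, or_false] at ha hb
        rcases ha with ha | ha <;> rcases hb with hb | hb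
        · exact absurd (ha.trans hb.symm) hne'
        · exact Or.inl ⟨ha, hb⟩
        · exact Or.inr ⟨ha, hb⟩
        · exact absurd (ha.trans hb.symm) hne'
      · omega
    · intro hg
      refine mul_inv_eq_iff_eq_mul.1 ?_
      rw [show g * (d₁ * d₂) * g⁻¹ = (g * d₁ * g⁻¹) * (g * d₂ * g⁻¹) by group]
      rcases hg with ⟨e1, e2⟩ | ⟨e1, e2⟩ <;> rw [e1, e2]
      exact hc.eq.symm
  have hle : K ≤ C := fun g hg => (memC g).2 (Or.inl ((memK g).1 hg))
  obtain ⟨s, hs₁, hs₂⟩ : ∃ s, s * d₁ * s⁻¹ = d₂ ∧ s * d₂ * s⁻¹ = d₁ := by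
    obtain ⟨e₀, he₀⟩ := h
    obtain ⟨g, g1, g2⟩ := pair_std ((mem_iff_of_image e₀ he₀).1 h₁) ((mem_iff_of_image e₀ he₀).1 h₂)
      (e₀.injective.ne hne) (hc.map e₀.toMonoidHom)
    obtain ⟨g', g1', g2'⟩ := pair_std ((mem_iff_of_image e₀ he₀).1 h₂) ((mem_iff_of_image e₀ he₀).1 h₁)
      (e₀.injective.ne hne.symm) (hc.symm.map e₀.toMonoidHom)
    refine ⟨e₀.symm (g'⁻¹ * g), ?_, ?_⟩ <;> refine e₀.injective ?_ <;>
      simp only [map_mul, map_inv, MulEquiv.apply_symm_apply]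
    · calc g'⁻¹ * g * e₀ d₁ * (g'⁻¹ * g)⁻¹ = g'⁻¹ * (g * e₀ d₁ * g⁻¹) * g' := by group
        _ = g'⁻¹ * (g' * e₀ d₂ * g'⁻¹) * g' := by rw [g1, g1']
        _ = e₀ d₂ := by group
    · calc g'⁻¹ * g * e₀ d₂ * (g'⁻¹ * g)⁻¹ = g'⁻¹ * (g * e₀ d₂ * g⁻¹) * g' := by group
        _ = g'⁻¹ * (g' * e₀ d₁ * g'⁻¹) * g' := by rw [g2, g2']
        _ = e₀ d₁ := by group
  have hidx : (K.subgroupOf C).index = 2 := by
    rw [Subgroup.index_eq_two_iff]
    refine ⟨⟨s, (memC s).2 (Or.inr ⟨hs₁, hs₂⟩)⟩, fun g => ?_⟩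
    rw [Subgroup.mem_subgroupOf, Subgroup.mem_subgroupOf, Subgroup.coe_mul, memK, memK]
    have hmul : ∀ y, (g : G) * s * y * ((g : G) * s)⁻¹ = (g : G) * (s * y * s⁻¹) * (g : G)⁻¹ :=
      fun y => by group
    rw [hmul, hmul, hs₁, hs₂]
    rcases (memC g).1 g.2 with ⟨a1, a2⟩ | ⟨a1, a2⟩
    · exact Or.inr ⟨⟨a1, a2⟩, fun h => hne (h.2.symm.trans a1).symm⟩
    · exact Or.inl ⟨⟨a2, a1⟩, fun h => hne (h.1.symm.trans a1)⟩
  refine ⟨hle, hidx, hcen, hq, ⟨FieldFour, inferInstance, inferInstance, FieldFour.card_eq, hf⟩, ?_⟩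
  -- the centre of the quotient
  rw [eq_bot_iff]
  intro z hz
  induction z using QuotientGroup.induction_on with
  | _ c => ?_
  rw [Subgroup.mem_bot, QuotientGroup.eq_one_iff, Subgroup.mem_subgroupOf]
  have hcomm : ∀ k ∈ K, (c : G) * k * (c : G)⁻¹ * k⁻¹ ∈ V := by
    intro k hk
    have e := Subgroup.mem_center_iff.1 hz ((⟨k, hle hk⟩ : C) : ↥C ⧸ V.subgroupOf C)
    rw [← QuotientGroup.mk_mul, ← QuotientGroup.mk_mul, QuotientGroup.eq, Subgroup.mem_subgroupOf] at e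
    simp only [Subgroup.coe_mul, Subgroup.coe_inv] at e
    have e' := hn.conj_mem ⟨_, show ((k * (c : G))⁻¹ * ((c : G) * k)) ∈ C from
      mul_mem (inv_mem (mul_mem (hle hk) c.2)) (mul_mem c.2 (hle hk))⟩ (Subgroup.mem_subgroupOf.2 e)
      (⟨k, hle hk⟩ * c)
    rw [Subgroup.mem_subgroupOf] at e'
    simp only [Subgroup.coe_mul, Subgroup.coe_inv] at e'
    convert e' using 1
    group
  have hVc : ∀ v ∈ V, ∀ k ∈ K, Commute k v := by
    intro v hv k hk
    rw [← hcen] at hv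
    obtain ⟨z, hz, rfl⟩ := hv
    exact congrArg Subtype.val (Subgroup.mem_center_iff.1 hz ⟨k, hk⟩)
  have hVK : ∀ v ∈ V, v ∈ K := fun v hv => by
    rw [← hcen] at hv
    obtain ⟨z, -, rfl⟩ := hv
    exact z.2
  let f : ↥K →* ↥(Subgroup.center ↥K) := MonoidHom.mk'
    (fun k => ⟨⟨(c : G) * k * (c : G)⁻¹ * (k : G)⁻¹, hVK _ (hcomm k k.2)⟩,
      Subgroup.mem_center_iff.2 fun m => Subtype.ext (hVc _ (hcomm k k.2) m m.2).eq⟩)
    fun a b => Subtype.ext (Subtype.ext (by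
      show (c : G) * (a * b : G) * (c : G)⁻¹ * (a * b : G)⁻¹ =
        ((c : G) * a * (c : G)⁻¹ * (a : G)⁻¹) * ((c : G) * b * (c : G)⁻¹ * (b : G)⁻¹)
      have hb := (hVc _ (hcomm b b.2) a a.2).eq
      calc (c : G) * (a * b : G) * (c : G)⁻¹ * (a * b : G)⁻¹
          = (c : G) * a * (c : G)⁻¹ * ((c : G) * b * (c : G)⁻¹ * (b : G)⁻¹) * (a : G)⁻¹ := by group
        _ = (c : G) * a * (c : G)⁻¹ * (a : G)⁻¹ *
            ((a : G) * ((c : G) * b * (c : G)⁻¹ * (b : G)⁻¹)) * (a : G)⁻¹ := by group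
        _ = _ := by rw [hb]; group))
  have htriv : ∀ k, f k = 1 := by
    intro k
    have h1 : commutator ↥K ≤ f.ker := by
      rw [commutator_def, Subgroup.commutator_le]
      intro a _ b _
      rw [MonoidHom.mem_ker, map_commutatorElement]
      exact commutatorElement_eq_one_iff_mul_comm.2
        (Subtype.ext (Subgroup.mem_center_iff.1 (f b).2 (f a : ↥K)))
    rw [hq.1.commutator_eq_top] at h1
    exact MonoidHom.mem_ker.1 (h1 (Subgroup.mem_top k))
  have hfix : ∀ k ∈ K, (c : G) * k * (c : G)⁻¹ = k := fun k hk =>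
    mul_inv_eq_one.1 (congrArg (fun z : Subgroup.center ↥K => ((z : K) : G)) (htriv ⟨k, hk⟩))
  have hd : ∀ x ∈ ({d₁, d₂} : Set G), x ∈ K := fun x hx => hVK x (hV ▸ Subgroup.subset_closure hx)
  have hcK : (c : G) ∈ K := (memK c).2 ⟨hfix d₁ (hd _ (by simp)), hfix d₂ (hd _ (by simp))⟩
  rw [← hcen]
  exact ⟨⟨c, hcK⟩, Subgroup.mem_center_iff.2 fun k => Subtype.ext (by
    show (k : G) * (c : G) = (c : G) * k
    exact (mul_inv_eq_iff_eq_mul.1 (hfix k k.2)).symm), rfl⟩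

end CfsgLib.Sporadic.FiTransfer23
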