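import Cfsg.Agent.Lib.Sporadic.FiTransfer.Model
import Cfsg.Agent.Lib.Sporadic.FiTransfer23.Facts
import Cfsg.Agent.Lib.Sporadic.FiTransfer23.PairData

/-!
# The pair facts in the presented group Fi22

Transpositions correspond to points; two of them commute when one fixes the point of the other.
-/

set_option autoImplicit false
set_option maxRecDepth 100000

open Cfsg.Spor

namespace CfsgLib.Sporadic.FiTransfer23.PairModel

open CosetCert CosetCert.FiP PairData
open FiTransfer (classTr)

/-- The transposition of a point. -/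
noncomputable def tau (u : Fin FiData.table.N) : Fi22 :=
  (transitive u).choose * tr * (transitive u).choose⁻¹

theorem conj_eq_of_pt {x y : Fi22} (h : hom x pt = hom y pt) : x * tr * x⁻¹ = y * tr * y⁻¹ := by
  have hm : y⁻¹ * x ∈ grpH := mem_grpH_of_fix (by
    rw [map_mul, Equiv.Perm.mul_apply, h, map_inv]
    simp)
  have h2 : y⁻¹ * x * tr = tr * (y⁻¹ * x) :=
    Subgroup.mem_centralizer_singleton_iff.1 (grpH_le hm)
  calc x * tr * x⁻¹ = y * ((y⁻¹ * x) * tr) * x⁻¹ := by group
    _ = y * (tr * (y⁻¹ * x)) * x⁻¹ := by rw [h2]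
    _ = y * tr * y⁻¹ := by group

theorem tau_hom (x : Fi22) : tau (hom x pt) = x * tr * x⁻¹ :=
  conj_eq_of_pt (transitive (hom x pt)).choose_spec

theorem tau_conj (g : Fi22) (u : Fin FiData.table.N) : tau (hom g u) = g * tau u * g⁻¹ := by
  obtain ⟨x, rfl⟩ := transitive u
  rw [← Equiv.Perm.mul_apply, ← map_mul, tau_hom, tau_hom]
  group

theorem tau_mem (u : Fin FiData.table.N) : tau u ∈ classTr :=
  isConj_iff.2 ⟨(transitive u).choose, rfl⟩

theorem tau_surj {d : Fi22} (h : d ∈ classTr) : ∃ u, tau u = d := by
  obtain ⟨x, rfl⟩ := isConj_iff.1 h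
  exact ⟨hom x pt, tau_hom x⟩

theorem tau_inj : Function.Injective tau := by
  intro u v h
  obtain ⟨x, rfl⟩ := transitive u
  obtain ⟨y, rfl⟩ := transitive v
  rw [tau_hom, tau_hom] at h
  have hm : y⁻¹ * x ∈ grpH := by
    rw [← centralizer_tr, Subgroup.mem_centralizer_singleton_iff]
    calc y⁻¹ * x * tr = y⁻¹ * (x * tr * x⁻¹) * x := by group
      _ = y⁻¹ * (y * tr * y⁻¹) * x := by rw [h]
      _ = tr * (y⁻¹ * x) := by group
  have := hom_fix _ hm
  rw [map_mul, Equiv.Perm.mul_apply, map_inv, Equiv.Perm.inv_def, Equiv.symm_apply_eq] at this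
  exact this

theorem commute_iff (u v : Fin FiData.table.N) : Commute (tau u) (tau v) ↔ hom (tau u) v = v := by
  rw [← tau_inj.eq_iff, tau_conj, mul_inv_eq_iff_eq_mul]
  rfl

theorem gen_sq : ∀ x < 9, coding.gen x * coding.gen x = 1 := by
  intro x hx
  refine card_eq.2 (Equiv.ext fun u => Fin.ext ?_)
  rw [map_mul, map_one, Equiv.Perm.mul_apply, Equiv.Perm.one_apply,
    hom_acts.img_eq x hx, hom_acts.img_eq x hx]
  have hb : ∀ x < 9, allBelow (fun v => Nat.beq (FiData.table.img x (FiData.table.img x v)) v)
      FiData.table.N = true := by decide +kernel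
  exact Nat.eq_of_beq_eq_true (of_allBelow (hb x hx) u u.2)

theorem appProd_reverse : ∀ L : List ℕ, (∀ x ∈ L, x < 9) →
    appProd coding.gen L.reverse = (appProd coding.gen L)⁻¹ := by
  intro L
  induction L with
  | nil => intro _; simp [appProd]
  | cons x t ih =>
    intro h
    rw [List.reverse_cons, appProd_append, ih fun y hy => h y (List.mem_cons_of_mem _ hy), appProd,
      appProd, appProd, one_mul, mul_inv_rev,
      inv_eq_of_mul_eq_one_right (gen_sq x (h x List.mem_cons_self))]

theorem tr_eq : tr = appProd coding.gen [0] := by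
  rw [tr, wd, coding.mk_eq]
  rfl

/-- Where the transposition with the given word sends a point. -/
noncomputable def act (W : List ℕ) (v : ℕ) : ℕ :=
  (W.reverse ++ 0 :: W).foldl (fun w x => FiData.table.img x w) v

/-- A point with a word. -/
noncomputable def wordOK (e : ℕ × List ℕ) : Bool :=
  (e.2.all fun x => Nat.blt x 9) && Nat.blt e.1 FiData.table.N &&
    Nat.beq (e.2.foldl (fun w x => FiData.table.img x w) 0) e.1

theorem tau_act {e : ℕ × List ℕ} (h : wordOK e = true) (u v : Fin FiData.table.N)
    (hu : (u : ℕ) = e.1) : ((hom (tau u) v : Fin FiData.table.N) : ℕ) = act e.2 v := by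
  simp only [wordOK, Bool.and_eq_true, List.all_eq_true, Nat.blt_eq] at h
  obtain ⟨⟨hl, -⟩, hp⟩ := h
  have hN : FiData.table.nl = 9 := rfl
  have hx : u = hom (appProd coding.gen e.2) pt := Fin.ext (by
    rw [hom_word _ (fun x hx => hN ▸ hl x hx), hu]
    exact (Nat.eq_of_beq_eq_true hp).symm)
  have hW : appProd coding.gen (e.2.reverse ++ 0 :: e.2) = tau u := by
    rw [hx, tau_hom, tr_eq, appProd_append, ← appProd_reverse e.2 hl,
      show (0 :: e.2) = [0] ++ e.2 from rfl, appProd_append]
  rw [← hW, hom_word _ ?_ v]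
  · rfl
  · intro x hx
    rw [List.mem_append, List.mem_reverse, List.mem_cons] at hx
    rcases hx with hx | rfl | hx
    · exact hN ▸ hl x hx
    · decide +kernel
    · exact hN ▸ hl x hx

theorem commute_act {e : ℕ × List ℕ} (h : wordOK e = true) (u v : Fin FiData.table.N)
    (hu : (u : ℕ) = e.1) : Commute (tau u) (tau v) ↔ act e.2 v = v := by
  rw [commute_iff, Fin.ext_iff, tau_act h u v hu]

/-- The point of a word. -/
noncomputable def point (e : ℕ × List ℕ) : Fin FiData.table.N :=
  ⟨Nat.min e.1 3509, lt_of_le_of_lt (min_le_right _ _) (by decide +kernel)⟩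

theorem point_val {e : ℕ × List ℕ} (h : wordOK e = true) : (point e : ℕ) = e.1 := by
  simp only [wordOK, Bool.and_eq_true, Nat.blt_eq] at h
  have hN : FiData.table.N = 3510 := rfl
  have := h.1.2
  exact min_eq_left (by omega)

theorem wordV_ok : wordOK (ptV, wordV) = true := by decide +kernel

theorem data_ok : (pairGens ++ six ++ sep ++ [baseR, baseS]).all wordOK = true := by decide +kernel

theorem ok_of_mem {e : ℕ × List ℕ} (h : e ∈ pairGens ++ six ++ sep ++ [baseR, baseS]) :
    wordOK e = true := List.all_eq_true.1 data_ok e h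

/-- The second point. -/
noncomputable abbrev qv : Fin FiData.table.N := point (ptV, wordV)

/-- The test for common points. -/
noncomputable def inCom (p : ℕ) : Bool :=
  Nat.beq (act [] p) p && Nat.beq (act wordV p) p

/-- The test for moved points. -/
noncomputable def inMov (p : ℕ) : Bool :=
  Nat.beq (act [] p) p && !Nat.beq (act wordV p) p && !Nat.beq p 0

theorem commute_pt (p : Fin FiData.table.N) : Commute (tau pt) (tau p) ↔ act [] p = p :=
  commute_act (e := (0, [])) (by decide +kernel) pt p rfl

theorem commute_qv (p : Fin FiData.table.N) : Commute (tau qv) (tau p) ↔ act wordV p = p :=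
  commute_act wordV_ok qv p (point_val wordV_ok)

theorem com_iff (p : Fin FiData.table.N) :
    tau p ∈ Com classTr (tau pt) (tau qv) ↔ inCom p = true := by
  simp only [Com, Set.mem_ofPred_eq, tau_mem, true_and, commute_pt, commute_qv, inCom,
    Bool.and_eq_true, Nat.beq_eq]

theorem mov_iff (p : Fin FiData.table.N) :
    tau p ∈ Mov classTr (tau pt) (tau qv) ↔ inMov p = true := by
  have h0 : p ≠ pt ↔ (p : ℕ) ≠ 0 := by rw [ne_eq, Fin.ext_iff]; rfl
  simp only [Mov, Set.mem_ofPred_eq, tau_mem, true_and, ne_eq, tau_inj.eq_iff, commute_pt, commute_qv,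
    inMov, Bool.and_eq_true, Bool.not_eq_true', Nat.beq_eq, ← Bool.not_eq_true]
  rw [show (¬ p = pt) ↔ (p : ℕ) ≠ 0 from h0]
  tauto

theorem gen_fix {e : ℕ × List ℕ} (he : e ∈ pairGens) :
    Commute (tau (point e)) (tau pt) ∧ Commute (tau (point e)) (tau qv) := by
  have h : pairGens.all (fun e => inCom e.1) = true := by decide +kernel
  have h1 := (com_iff (point e)).2 (by
    rw [point_val (ok_of_mem (by simp [he]))]
    exact List.all_eq_true.1 h e he)
  exact ⟨h1.2.1.symm, h1.2.2.symm⟩

/-- A search tree: each step adds the image of a listed point under a generator. -/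
noncomputable def treeOK : List (ℕ × ℕ × ℕ) → List ℕ → Bool
  | [], _ => true
  | (p, q, k) :: t, seen =>
    seen.contains q && Nat.blt k pairGens.length && Nat.blt q FiData.table.N &&
      Nat.beq (act (pairGens.getD k (0, [])).2 q) p && treeOK t (p :: seen)

/-- A property invariant under the generators holds on a search tree. -/
theorem tree_induct {P : Fin FiData.table.N → Prop}
    (hstep : ∀ e ∈ pairGens, ∀ u, P u → P (hom (tau (point e)) u)) :
    ∀ (t : List (ℕ × ℕ × ℕ)) (seen : List ℕ), treeOK t seen = true →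
      (∀ u : Fin FiData.table.N, (u : ℕ) ∈ seen → P u) →
      ∀ u : Fin FiData.table.N, (u : ℕ) ∈ seen ++ t.map (fun e => e.1) → P u := by
  intro t
  induction t with
  | nil => intro seen _ h u hu; exact h u (by simpa using hu)
  | cons e t ih =>
    obtain ⟨p, q, k⟩ := e
    intro seen hok h u hu
    simp only [treeOK, Bool.and_eq_true, Nat.blt_eq, List.contains_iff_mem, Nat.beq_eq] at hok
    obtain ⟨⟨⟨⟨hq, hk⟩, hqN⟩, hp⟩, hrest⟩ := hok
    refine ih (p :: seen) hrest (fun w hw => ?_) u ?_
    · rcases List.mem_cons.1 hw with hw | hw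
      · have hm : pairGens.getD k (0, []) ∈ pairGens := by
          rw [List.getD_eq_getElem _ _ hk]; exact List.getElem_mem hk
        have he := ok_of_mem (e := pairGens.getD k (0, []))
          (List.mem_append_left _ (List.mem_append_left _ (List.mem_append_left _ hm)))
        have e1 : w = hom (tau (point (pairGens.getD k (0, [])))) ⟨q, hqN⟩ := Fin.ext (by
          rw [tau_act he _ _ (point_val he), hw]
          exact hp.symm)
        rw [e1]
        exact hstep _ hm _ (h _ hq)
      · exact h w hw
    · simp only [List.map_cons, List.mem_append, List.mem_cons] at hu ⊢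
      tauto

theorem treeR_ok : treeOK treeR [baseR.1] = true := by decide +kernel

theorem treeS_ok : treeOK treeS [baseS.1] = true := by decide +kernel

theorem cover_R : allBelow (fun p => !inMov p || (baseR.1 :: treeR.map (fun e => e.1)).contains p)
    FiData.table.N = true := by decide +kernel

theorem cover_S : allBelow (fun p => !inCom p || (baseS.1 :: treeS.map (fun e => e.1)).contains p)
    FiData.table.N = true := by decide +kernel

theorem base_thirty : allBelow (fun p =>
    (inCom p && Nat.beq (act baseR.2 p) p) == thirty.contains p) FiData.table.N = true := by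
  decide +kernel

theorem base_sep : allBelow (fun p =>
    !(inMov p && sep.all fun e => Nat.beq (act e.2 p) p) || Nat.beq p baseR.1)
      FiData.table.N = true := by
  decide +kernel

/-- The facts about one moved member. -/
def MovFacts (E : Set Fi22) (u v w : Fi22) : Prop :=
  {q | q ∈ Com E u v ∧ Commute w q}.ncard = 30 ∧
  (∃ f : Fin 6 → Fi22, Function.Injective f ∧
    (∀ i, f i ∈ Com E u v ∧ Commute w (f i)) ∧ ∀ i j, Commute (f i) (f j)) ∧
  ∀ w' ∈ Mov E u v, (∀ q ∈ Com E u v, Commute w q → Commute w' q) → w = w'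

theorem conj_com {g q : Fi22} (hu : Commute g (tau pt)) (hv : Commute g (tau qv))
    (hq : q ∈ Com classTr (tau pt) (tau qv)) : g * q * g⁻¹ ∈ Com classTr (tau pt) (tau qv) := by
  refine ⟨FiTransfer.classTr_conj hq.1, ?_, ?_⟩
  · have := (conj_commute_iff g _ _).2 hq.2.1
    rwa [hu.eq, mul_inv_cancel_right] at this
  · have := (conj_commute_iff g _ _).2 hq.2.2
    rwa [hv.eq, mul_inv_cancel_right] at this

theorem movFacts_conj {g w : Fi22} (hu : Commute g (tau pt)) (hv : Commute g (tau qv))
    (h : MovFacts classTr (tau pt) (tau qv) w) :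
    MovFacts classTr (tau pt) (tau qv) (g * w * g⁻¹) := by
  obtain ⟨h30, ⟨f, hf, hfm, hfc⟩, huniq⟩ := h
  have hu' := hu.inv_left
  have hv' := hv.inv_left
  refine ⟨?_, ⟨fun i => g * f i * g⁻¹, fun i j e => hf (mul_left_cancel (mul_right_cancel e)),
    fun i => ⟨conj_com hu hv (hfm i).1, (conj_commute_iff g _ _).2 (hfm i).2⟩,
    fun i j => (conj_commute_iff g _ _).2 (hfc i j)⟩, ?_⟩
  · rw [← h30, ← Set.ncard_image_of_injective {q | q ∈ Com classTr (tau pt) (tau qv) ∧ Commute w q}
      (f := fun q => g * q * g⁻¹) fun a b e => mul_left_cancel (mul_right_cancel e)]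
    congr 1
    ext q
    constructor
    · rintro ⟨hq, hwq⟩
      refine ⟨g⁻¹ * q * g, ⟨by simpa using conj_com hu' hv' hq, ?_⟩, by group⟩
      simpa [mul_assoc] using (conj_commute_iff g⁻¹ _ _).2 hwq
    · rintro ⟨q, ⟨hq, hwq⟩, rfl⟩
      exact ⟨conj_com hu hv hq, (conj_commute_iff g _ _).2 hwq⟩
  · intro w' hw' hq
    have hm : g⁻¹ * w' * g ∈ Mov classTr (tau pt) (tau qv) := by
      obtain ⟨h1, h2, h3, h4⟩ := hw'
      refine ⟨by simpa using FiTransfer.classTr_conj (g := g⁻¹) h1, fun e => h2 ?_, ?_, fun e => h4 ?_⟩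
      · rw [show w' = g * (g⁻¹ * w' * g) * g⁻¹ by group, e, hu.eq, mul_inv_cancel_right]
      · have := (conj_commute_iff g⁻¹ _ _).2 h3
        rw [inv_inv, hu'.eq, mul_assoc, inv_mul_cancel, mul_one] at this
        exact this
      · have := (conj_commute_iff g _ _).2 e
        simpa [hv.eq, mul_assoc] using this
    rw [huniq _ hm fun q hq' hwq => ?_]
    · group
    · simpa [mul_assoc] using (conj_commute_iff g⁻¹ _ _).2
        (hq _ (conj_com hu hv hq') ((conj_commute_iff g _ _).2 hwq))

theorem movFacts_base : MovFacts classTr (tau pt) (tau qv) (tau (point baseR)) := by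
  have hR := ok_of_mem (e := baseR) (by simp)
  have hw : ∀ p, Commute (tau (point baseR)) (tau p) ↔ act baseR.2 p = p := fun p =>
    commute_act hR _ p (point_val hR)
  have hbeq : ∀ p, p < FiData.table.N → ((inCom p && Nat.beq (act baseR.2 p) p) = true ↔
      thirty.contains p = true) := fun p hp => by
    rw [eq_of_beq (of_allBelow base_thirty p hp)]
  refine ⟨?_, ?_, ?_⟩
  · have hset : {q | q ∈ Com classTr (tau pt) (tau qv) ∧ Commute (tau (point baseR)) q} =
        tau '' {p | (p : ℕ) ∈ thirty} := by
      ext q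
      constructor
      · rintro ⟨hq, hwq⟩
        obtain ⟨p, rfl⟩ := tau_surj hq.1
        refine ⟨p, ?_, rfl⟩
        have := (hbeq p p.2).1 (by
          rw [Bool.and_eq_true, Nat.beq_eq]; exact ⟨(com_iff p).1 hq, (hw p).1 hwq⟩)
        simpa using this
      · rintro ⟨p, hp, rfl⟩
        have := (hbeq p p.2).2 (by simpa using hp)
        rw [Bool.and_eq_true, Nat.beq_eq] at this
        exact ⟨(com_iff p).2 this.1, (hw p).2 this.2⟩
    rw [hset, Set.ncard_image_of_injective _ tau_inj]
    have hlt : ∀ p ∈ thirty, p < FiData.table.N := by decide +kernel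
    have hnd : thirty.Nodup := by decide +kernel
    have e : {p : Fin FiData.table.N | (p : ℕ) ∈ thirty}.ncard = thirty.toFinset.card := by
      rw [← Set.ncard_coe_finset, ← Set.ncard_image_of_injective _ Fin.val_injective]
      congr 1
      ext p
      simp only [Set.mem_image, Set.mem_ofPred_eq, Finset.mem_coe, List.mem_toFinset]
      exact ⟨fun ⟨x, hx, e⟩ => e ▸ hx, fun hp => ⟨⟨p, hlt p hp⟩, hp, rfl⟩⟩
    rw [e, List.toFinset_card_of_nodup hnd]
    decide +kernel
  · have hlen : six.length = 6 := by decide +kernel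
    let f : Fin 6 → ℕ × List ℕ := fun i => six.getD i (0, [])
    have hok : ∀ i, wordOK (f i) = true := fun i => ok_of_mem (by
      have hi : (i : ℕ) < six.length := by omega
      simp only [f, List.getD_eq_getElem _ _ hi]
      exact List.mem_append_left _ (List.mem_append_left _
        (List.mem_append_right _ (List.getElem_mem hi))))
    have hc : ∀ i j : Fin 6, act (six.getD i (0, [])).2 (six.getD j (0, [])).1 = (six.getD j (0, [])).1 ∧
        ((six.getD i (0, [])).1 = (six.getD j (0, [])).1 → i = j) ∧
        inCom (six.getD i (0, [])).1 = true ∧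
        act baseR.2 (six.getD i (0, [])).1 = (six.getD i (0, [])).1 := by
      decide +kernel
    refine ⟨fun i => tau (point (f i)), fun i j e => (hc i j).2.1 ?_, fun i => ⟨?_, ?_⟩, fun i j => ?_⟩
    · rw [← point_val (hok i), ← point_val (hok j), tau_inj e]
    · exact (com_iff _).2 (by rw [point_val (hok i)]; exact (hc i i).2.2.1)
    · exact (hw _).2 (by rw [point_val (hok i)]; exact (hc i i).2.2.2)
    · exact (commute_act (hok i) _ _ (point_val (hok i))).2
        (by rw [point_val (hok j)]; exact (hc i j).1)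
  · intro w' hw' hq
    obtain ⟨p, rfl⟩ := tau_surj hw'.1
    have hsep : ∀ e ∈ sep, inCom e.1 = true ∧ act baseR.2 e.1 = e.1 := by decide +kernel
    have h := of_allBelow base_sep p p.2
    have hall : (inMov p && sep.all fun e => Nat.beq (act e.2 p) p) = true := by
      rw [Bool.and_eq_true, List.all_eq_true]
      refine ⟨(mov_iff p).1 hw', fun e he => ?_⟩
      have hok := ok_of_mem (e := e) (by simp [he])
      have hcw := hq (tau (point e)) ((com_iff _).2 (by rw [point_val hok]; exact (hsep e he).1))
        ((hw _).2 (by rw [point_val hok]; exact (hsep e he).2))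
      rw [Nat.beq_eq]
      exact (commute_act hok _ _ (point_val hok)).1 hcw.symm
    rw [hall] at h
    simp only [Bool.not_true, Bool.false_or, Nat.beq_eq] at h
    exact congrArg tau (Fin.ext ((point_val hR).trans h.symm))

theorem movFacts_all {w : Fi22} (hw : w ∈ Mov classTr (tau pt) (tau qv)) :
    MovFacts classTr (tau pt) (tau qv) w := by
  obtain ⟨p, rfl⟩ := tau_surj hw.1
  refine tree_induct (P := fun u => MovFacts classTr (tau pt) (tau qv) (tau u))
    (fun e he u hu => ?_) treeR [baseR.1] treeR_ok (fun u hu => ?_) p ?_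
  · rw [tau_conj]; exact movFacts_conj (gen_fix he).1 (gen_fix he).2 hu
  · have hR := ok_of_mem (e := baseR) (by simp)
    rw [show u = point baseR from Fin.ext (by rw [point_val hR]; simpa using hu)]
    exact movFacts_base
  · have h := of_allBelow cover_R p p.2
    rw [(mov_iff p).1 hw] at h
    simpa using h

theorem com_apart {q : Fi22} (hq : q ∈ Com classTr (tau pt) (tau qv)) :
    ∃ q' ∈ Com classTr (tau pt) (tau qv), ¬ Commute q q' := by
  obtain ⟨p, rfl⟩ := tau_surj hq.1
  refine tree_induct (P := fun u => ∃ q' ∈ Com classTr (tau pt) (tau qv), ¬ Commute (tau u) q')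
    (fun e he u hu => ?_) treeS [baseS.1] treeS_ok (fun u hu => ?_) p ?_
  · obtain ⟨q', h1, h2⟩ := hu
    refine ⟨_, conj_com (gen_fix he).1 (gen_fix he).2 h1, fun h => h2 ?_⟩
    rw [tau_conj] at h
    exact (conj_commute_iff _ _ _).1 h
  · have hS := ok_of_mem (e := baseS) (by simp)
    have hm : otherS < FiData.table.N := by decide +kernel
    have h1 : inCom otherS = true := by decide +kernel
    refine ⟨tau ⟨otherS, hm⟩, (com_iff _).2 h1, fun h => ?_⟩
    have := (commute_act hS u _ (by simpa using hu)).1 h
    revert this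
    show act baseS.2 otherS ≠ otherS
    decide +kernel
  · have h := of_allBelow cover_S p p.2
    rw [(com_iff p).1 hq] at h
    simpa using h

theorem pair_facts : PairFacts classTr (tau pt) (tau qv) where
  nonempty := by
    have hR := ok_of_mem (e := baseR) (by simp)
    exact ⟨tau (point baseR), (mov_iff _).2 (by rw [point_val hR]; decide +kernel)⟩
  thirty w hw := (movFacts_all hw).1
  six w hw := (movFacts_all hw).2.1
  unique w hw := (movFacts_all hw).2.2
  apart _ hq := com_apart hq

theorem pair_noncomm : ¬ Commute (tau pt) (tau qv) := by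
  rw [commute_pt, point_val wordV_ok]
  decide +kernel

/-- There is a non-commuting pair in the model with all the facts. -/
theorem exists_pair : ∃ u ∈ classTr, ∃ v ∈ classTr, ¬ Commute u v ∧ PairFacts classTr u v :=
  ⟨_, tau_mem pt, _, tau_mem qv, pair_noncomm, pair_facts⟩

end CfsgLib.Sporadic.FiTransfer23.PairModel
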