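import Mathlib

/-!
# Closed sets of signed vectors in dimension seven over the field with three elements

A set closed under sign changes and reflections, with sixty members orthogonal to each basis vector,
is given by the complements of the lines of a plane of seven points, and it holds a diagram of type
E7 that extends by one outside vector to a diagram satisfying the relators of Fi23.
-/

set_option autoImplicit false
set_option maxRecDepth 100000

namespace CfsgLib.Sporadic.FiTransfer23.Supports

abbrev C7 := Fin 7 → ZMod 3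

/-- The supports of size four. -/
def quadL : List ℕ := [15, 23, 39, 71, 27, 43, 75, 51, 83, 99, 29, 45, 77, 53, 85, 101, 57, 89, 105, 113, 30, 46, 78, 54, 86, 102, 58, 90, 106, 114, 60, 92, 108, 116, 120]

/-- The single supports. -/
def singleL : List ℕ := [1, 2, 4, 8, 16, 32, 64]

/-- Thirty diagrams, each given by supports and negative parts, in the order a b c d e h i f. -/
def configs : List (List (ℕ × ℕ)) := [
    [(1, 0), (51, 0), (60, 0), (8, 0), (60, 24), (60, 40), (102, 32), (86, 16)],
    [(1, 0), (51, 0), (60, 0), (8, 0), (60, 40), (60, 24), (86, 16), (102, 32)],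
    [(1, 0), (83, 0), (92, 0), (8, 0), (92, 24), (92, 72), (102, 64), (54, 16)],
    [(1, 0), (83, 0), (92, 0), (8, 0), (92, 72), (92, 24), (54, 16), (102, 64)],
    [(1, 0), (99, 0), (108, 0), (8, 0), (108, 40), (108, 72), (86, 64), (54, 32)],
    [(1, 0), (99, 0), (108, 0), (8, 0), (108, 72), (108, 40), (54, 32), (86, 64)],
    [(1, 0), (43, 0), (60, 0), (16, 0), (60, 24), (60, 48), (102, 32), (78, 8)],
    [(1, 0), (43, 0), (60, 0), (16, 0), (60, 48), (60, 24), (78, 8), (102, 32)],
    [(1, 0), (75, 0), (92, 0), (16, 0), (92, 24), (92, 80), (102, 64), (46, 8)],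
    [(1, 0), (75, 0), (92, 0), (16, 0), (92, 80), (92, 24), (46, 8), (102, 64)],
    [(1, 0), (99, 0), (116, 0), (16, 0), (116, 48), (116, 80), (78, 64), (46, 32)],
    [(1, 0), (99, 0), (116, 0), (16, 0), (116, 80), (116, 48), (46, 32), (78, 64)],
    [(1, 0), (27, 0), (60, 0), (32, 0), (60, 40), (60, 48), (86, 16), (78, 8)],
    [(1, 0), (27, 0), (60, 0), (32, 0), (60, 48), (60, 40), (78, 8), (86, 16)],
    [(1, 0), (75, 0), (108, 0), (32, 0), (108, 40), (108, 96), (86, 64), (30, 8)],
    [(1, 0), (75, 0), (108, 0), (32, 0), (108, 96), (108, 40), (30, 8), (86, 64)],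
    [(1, 0), (83, 0), (116, 0), (32, 0), (116, 48), (116, 96), (78, 64), (30, 16)],
    [(1, 0), (83, 0), (116, 0), (32, 0), (116, 96), (116, 48), (30, 16), (78, 64)],
    [(1, 0), (27, 0), (92, 0), (64, 0), (92, 72), (92, 80), (54, 16), (46, 8)],
    [(1, 0), (27, 0), (92, 0), (64, 0), (92, 80), (92, 72), (46, 8), (54, 16)],
    [(1, 0), (43, 0), (108, 0), (64, 0), (108, 72), (108, 96), (54, 32), (30, 8)],
    [(1, 0), (43, 0), (108, 0), (64, 0), (108, 96), (108, 72), (30, 8), (54, 32)],
    [(1, 0), (51, 0), (116, 0), (64, 0), (116, 80), (116, 96), (46, 32), (30, 16)],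
    [(1, 0), (51, 0), (116, 0), (64, 0), (116, 96), (116, 80), (30, 16), (46, 32)],
    [(1, 0), (99, 0), (120, 0), (16, 0), (120, 48), (120, 80), (78, 64), (46, 32)],
    [(1, 0), (99, 0), (120, 0), (16, 0), (120, 80), (120, 48), (46, 32), (78, 64)],
    [(1, 0), (83, 0), (120, 0), (32, 0), (120, 48), (120, 96), (78, 64), (30, 16)],
    [(1, 0), (83, 0), (120, 0), (32, 0), (120, 96), (120, 48), (30, 16), (78, 64)],
    [(1, 0), (51, 0), (120, 0), (64, 0), (120, 80), (120, 96), (46, 32), (30, 16)],
    [(1, 0), (51, 0), (120, 0), (64, 0), (120, 96), (120, 80), (30, 16), (46, 32)]]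

/-- The scalar product. -/
def dot (x y : C7) : ZMod 3 :=
  x 0 * y 0 + x 1 * y 1 + x 2 * y 2 + x 3 * y 3 + x 4 * y 4 + x 5 * y 5 + x 6 * y 6

/-- The reflection along a vector of norm one. -/
def rfl7 (x y : C7) : C7 := fun i => y i + dot x y * x i

/-- The signed vector with given support and negative part. -/
def vecOf (A n : ℕ) : C7 := fun i =>
  if A.testBit i then (if n.testBit i then -1 else 1) else 0

/-- The support. -/
def supp (x : C7) : ℕ := Nat.ofBits fun i : Fin 7 => decide (x i ≠ 0)

/-- The negative part. -/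
def negm (x : C7) : ℕ := Nat.ofBits fun i : Fin 7 => decide (x i = -1)

theorem supp_lt (x : C7) : supp x < 128 := Nat.ofBits_lt_two_pow _

theorem negm_lt (x : C7) : negm x < 128 := Nat.ofBits_lt_two_pow _

theorem supp_bit (x : C7) (i : Fin 7) : (supp x).testBit i = decide (x i ≠ 0) :=
  Nat.testBit_ofBits_lt _ i i.2

theorem negm_bit (x : C7) (i : Fin 7) : (negm x).testBit i = decide (x i = -1) :=
  Nat.testBit_ofBits_lt _ i i.2

theorem vecOf_supp (x : C7) : vecOf (supp x) (negm x) = x := by
  funext i
  rw [vecOf, supp_bit, negm_bit]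
  generalize x i = a
  revert a
  decide

theorem vecOf_apply_zero {A n : ℕ} {i : Fin 7} : vecOf A n i = 0 ↔ A.testBit i = false := by
  rw [vecOf]
  cases A.testBit i <;> cases n.testBit i <;> decide

/-- The sublists of a mask. -/
def subs (m : ℕ) : List ℕ :=
  [0, 1, 2, 3, 4, 5, 6].foldl (fun acc i => bif m.testBit i then acc ++ acc.map (· + 2 ^ i) else acc) [0]

/-- The supports obtained by reflecting the second in the first. -/
def derived (A B : ℕ) : List ℕ := (subs (A &&& B)).map fun n => supp (rfl7 (vecOf A 0) (vecOf B n))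

/-- The size of a mask. -/
def size (A : ℕ) : ℕ := ([0, 1, 2, 3, 4, 5, 6].filter fun i => A.testBit i).length

/-- The number of listed supports missing a coordinate. -/
def avoid (L : List ℕ) (i : ℕ) : ℕ := L.countP fun a => !a.testBit i

/-- More than three quads missing one coordinate. -/
def tooMany (L : List ℕ) : Bool :=
  [0, 1, 2, 3, 4, 5, 6].any fun i => Nat.blt 3 (avoid ((L.filter quadL.contains).dedup) i)

theorem overlap_three : (quadL.all fun A => quadL.all fun B =>
    size (A &&& B) != 3 || tooMany (A :: B :: derived A B)) = true := by decide +kernel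

theorem overlap_full : (quadL.all fun A => (derived A 127).any fun B => (derived A 127).any fun B' =>
    quadL.contains B && quadL.contains B' && size (B &&& B') == 3) = true := by decide +kernel

theorem overlap_one : (quadL.all fun A => quadL.all fun B =>
    size (A &&& B) != 1 || (derived A B).contains 127) = true := by decide +kernel

theorem overlap_other : (quadL.all fun A => quadL.all fun B =>
    A == B || [1, 2, 3].contains (size (A &&& B))) = true := by decide +kernel

theorem norm_cases : ∀ A < 128, dot (vecOf A 0) (vecOf A 0) = 1 →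
    A ∈ singleL ∨ A ∈ quadL ∨ A = 127 := by decide +kernel

theorem norm_sign (x : C7) : dot x x = dot (vecOf (supp x) 0) (vecOf (supp x) 0) := by
  have h : ∀ i, x i * x i = vecOf (supp x) 0 i * vecOf (supp x) 0 i := fun i => by
    rw [vecOf, supp_bit, Nat.zero_testBit]
    generalize x i = a
    revert a
    decide
  simp only [dot, h]

/-- A set of vectors with the properties of the coordinates of the thirty-neighbour set. -/
structure Good (X : Set C7) : Prop where
  norm : ∀ x ∈ X, dot x x = 1
  single : ∀ i : Fin 7, Pi.single i 1 ∈ X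
  neg : ∀ x ∈ X, -x ∈ X
  refl : ∀ x ∈ X, ∀ y ∈ X, rfl7 x y ∈ X
  sixty : ∀ i : Fin 7, {x | x ∈ X ∧ x i = 0}.ncard = 60

/-- All signs of a support. -/
def Sig (X : Set C7) (A : ℕ) : Prop := ∀ n, vecOf A n ∈ X

variable {X : Set C7}

theorem rfl7_single (i : Fin 7) (x : C7) :
    rfl7 (Pi.single i 1) x = Function.update x i (-x i) := by
  have h : dot (Pi.single i 1) x = x i := by
    fin_cases i <;> simp [dot, Pi.single_apply]
  funext j
  rw [rfl7, h]
  rcases eq_or_ne j i with rfl | hj
  · simp only [Pi.single_eq_same, Function.update_self, mul_one]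
    generalize x j = a
    revert a
    decide
  · simp [hj]

theorem sig_of_mem (h : Good X) {x : C7} (hx : x ∈ X) : Sig X (supp x) := by
  intro n
  let y : ℕ → C7 := fun k i => if (i : ℕ) < k then vecOf (supp x) n i else x i
  have key : ∀ k ≤ 7, y k ∈ X := by
    intro k hk
    induction k with
    | zero =>
      have : y 0 = x := funext fun i => if_neg (Nat.not_lt_zero _)
      rwa [this]
    | succ k ih =>
      have hy := ih (by omega)
      set i : Fin 7 := ⟨k, by omega⟩
      have hne : ∀ j : Fin 7, j ≠ i → y (k + 1) j = y k j := fun j hj => by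
        have : (j : ℕ) ≠ k := fun e => hj (Fin.ext e)
        simp only [y]
        by_cases hjk : (j : ℕ) < k
        · rw [if_pos hjk, if_pos (by omega)]
        · rw [if_neg hjk, if_neg (by omega)]
      have h1 : y (k + 1) i = vecOf (supp x) n i := if_pos (Nat.lt_succ_self k)
      have h2 : y k i = x i := if_neg (lt_irrefl k)
      by_cases he : vecOf (supp x) n i = x i
      · have : y (k + 1) = y k := funext fun j => by
          rcases eq_or_ne j i with rfl | hj
          · rw [h1, h2, he]
          · exact hne j hj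
        rwa [this]
      · have e : y (k + 1) = rfl7 (Pi.single i 1) (y k) := by
          rw [rfl7_single]
          funext j
          rcases eq_or_ne j i with rfl | hj
          · rw [Function.update_self, h1, h2]
            revert he
            rw [vecOf, supp_bit]
            cases n.testBit i <;> generalize x i = a <;> revert a <;> decide
          · rw [Function.update_of_ne hj, hne j hj]
        rw [e]
        exact h.refl _ (h.single i) _ hy
  have := key 7 le_rfl
  rwa [show y 7 = vecOf (supp x) n from funext fun i => if_pos i.2] at this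

theorem sig_derived (h : Good X) {A B C : ℕ} (hA : Sig X A) (hB : Sig X B) (hC : C ∈ derived A B) :
    Sig X C := by
  obtain ⟨n, -, rfl⟩ := List.mem_map.1 hC
  exact sig_of_mem h (h.refl _ (hA 0) _ (hB n))

/-- The set of vectors on some supports that vanish at a coordinate, as pairs. -/
def pairs (L : List ℕ) (i : ℕ) : List (ℕ × ℕ) :=
  (L.filter fun a => !a.testBit i).flatMap fun a => (subs a).map fun n => (a, n)

theorem subs_spec : ∀ a < 128, (subs a).Nodup ∧ ∀ n < 128, n ∈ subs a ↔ n &&& a = n := by
  decide +kernel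

theorem supp_vecOf : ∀ a < 128, ∀ n ∈ subs a, supp (vecOf a n) = a ∧ negm (vecOf a n) = n := by
  decide +kernel

theorem quad_lt : ∀ a ∈ quadL, a < 128 ∧ (subs a).length = 16 := by decide +kernel

theorem single_lt : ∀ a ∈ singleL, a < 128 ∧ (subs a).length = 2 ∧ a ∉ quadL := by decide +kernel

theorem single_avoid : ∀ i < 7, avoid singleL i = 6 := by decide +kernel

theorem full_bit : ∀ i < 7, (127 : ℕ).testBit i = true := by decide +kernel

theorem supp_single : ∀ i : Fin 7, supp (Pi.single i 1) = 2 ^ (i : ℕ) := by decide +kernel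

theorem single_pow : ∀ a ∈ singleL, ∃ i : Fin 7, a = 2 ^ (i : ℕ) := by decide +kernel

theorem negm_sub (x : C7) : negm x &&& supp x = negm x := by
  refine Nat.eq_of_testBit_eq fun j => ?_
  rw [Nat.testBit_and]
  by_cases hj : j < 7
  · rw [show j = ((⟨j, hj⟩ : Fin 7) : ℕ) from rfl, supp_bit, negm_bit]
    generalize x ⟨j, hj⟩ = a
    revert a
    decide
  · rw [Nat.testBit_lt_two_pow ((negm_lt x).trans_le (by
      calc 128 = 2 ^ 7 := rfl
        _ ≤ 2 ^ j := Nat.pow_le_pow_right two_pos (by omega))), Bool.false_and]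

theorem card_avoid (h : Good X) {F : List ℕ} (hF : F.Nodup) (hFq : ∀ a ∈ F, a ∈ quadL)
    (hFX : ∀ a, a ∈ F ↔ a ∈ quadL ∧ Sig X a) {i : Fin 7} : avoid F i = 3 := by
  set P := pairs (singleL ++ F) i with hP
  have hsingle : ∀ a ∈ singleL, Sig X a := fun a ha => by
    obtain ⟨j, rfl⟩ := single_pow a ha
    rw [← supp_single j]
    exact sig_of_mem h (h.single j)
  have hlt : ∀ a ∈ singleL ++ F, a < 128 := fun a ha => by
    rcases List.mem_append.1 ha with ha | ha
    · exact (single_lt a ha).1
    · exact (quad_lt a (hFq a ha)).1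
  have hnd : (singleL ++ F).Nodup := List.nodup_append.2 ⟨by decide, hF, fun a ha b hb e =>
    (single_lt a ha).2.2 (hFq a (e ▸ hb))⟩
  have hset : {x | x ∈ X ∧ x i = 0} = (fun p => vecOf p.1 p.2) '' {p | p ∈ P} := by
    ext x
    constructor
    · rintro ⟨hx, hxi⟩
      refine ⟨(supp x, negm x), ?_, vecOf_supp x⟩
      have hb : (supp x).testBit i = false := by rw [supp_bit, hxi]; decide
      have hA : supp x ∈ singleL ++ F := by
        rcases norm_cases (supp x) (supp_lt x) (by rw [← norm_sign, h.norm x hx]) with e | e | e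
        · exact List.mem_append_left _ e
        · exact List.mem_append_right _ ((hFX _).2 ⟨e, sig_of_mem h hx⟩)
        · rw [e, full_bit i i.2] at hb
          exact absurd hb (by decide)
      simp only [hP, pairs, Set.mem_ofPred_eq, List.mem_flatMap, List.mem_filter, List.mem_map]
      exact ⟨supp x, ⟨hA, by rw [hb]; rfl⟩, negm x,
        ((subs_spec _ (supp_lt x)).2 _ (negm_lt x)).2 (negm_sub x), rfl⟩
    · rintro ⟨⟨a, n⟩, hp, rfl⟩
      simp only [hP, pairs, Set.mem_ofPred_eq, List.mem_flatMap, List.mem_filter, List.mem_map] at hp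
      obtain ⟨a', ⟨ha, hb⟩, n', hn, e⟩ := hp
      cases e
      refine ⟨?_, vecOf_apply_zero.2 (by simpa using hb)⟩
      rcases List.mem_append.1 ha with ha | ha
      · exact hsingle a ha n
      · exact ((hFX a).1 ha).2 n
  have hPn : P.Nodup := by
    refine List.nodup_flatMap.2 ⟨fun a ha => ?_, ?_⟩
    · exact ((subs_spec a (hlt a (List.mem_of_mem_filter ha))).1).map fun m n e => (Prod.mk.inj e).2
    · refine (hnd.filter _).pairwise_of_forall_ne fun a _ b _ hab p hp hp' => ?_
      obtain ⟨m, -, rfl⟩ := List.mem_map.1 hp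
      obtain ⟨n, -, e⟩ := List.mem_map.1 hp'
      exact hab (Prod.mk.inj e).1.symm
  have hinj : Set.InjOn (fun p : ℕ × ℕ => vecOf p.1 p.2) {p | p ∈ P} := by
    rintro ⟨a, m⟩ hp ⟨b, n⟩ hp' e
    simp only [hP, pairs, Set.mem_ofPred_eq, List.mem_flatMap, List.mem_filter, List.mem_map] at hp hp'
    obtain ⟨a', ⟨ha, -⟩, m', hm, ea⟩ := hp
    obtain ⟨b', ⟨hb, -⟩, n', hn, eb⟩ := hp'
    cases ea; cases eb
    obtain ⟨h1, h2⟩ := supp_vecOf a (hlt a ha) m hm
    obtain ⟨h3, h4⟩ := supp_vecOf b (hlt b hb) n hn
    simp only at e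
    rw [e] at h1 h2
    exact Prod.ext (h1.symm.trans h3) (h2.symm.trans h4)
  have hc := h.sixty i
  rw [hset, hinj.ncard_image, show {p | p ∈ P} = (P.toFinset : Set (ℕ × ℕ)) from Set.ext fun p => by simp,
    Set.ncard_coe_finset, List.toFinset_card_of_nodup hPn] at hc
  have hlen : ∀ (L : List ℕ) (k : ℕ), (∀ a ∈ L, (subs a).length = k) →
      (pairs L i).length = k * avoid L i := by
    intro L k hL
    induction L with
    | nil => simp [pairs, avoid]
    | cons a L ih =>
      have := ih fun b hb => hL b (List.mem_cons_of_mem _ hb)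
      simp only [pairs, avoid] at this ⊢
      cases hb : a.testBit i <;> simp [hb, this, hL a List.mem_cons_self, Nat.mul_add, Nat.add_comm]
  rw [hP, show pairs (singleL ++ F) i = pairs singleL i ++ pairs F i by simp [pairs],
    List.length_append, hlen singleL 2 (fun a ha => (single_lt a ha).2.1),
    hlen F 16 (fun a ha => (quad_lt a (hFq a ha)).2), single_avoid i i.2] at hc
  omega

/-- May the support be added. -/
def canAdd (a : ℕ) (ch : List ℕ) : Bool :=
  (ch.all fun b => size (a &&& b) == 2) &&
    [0, 1, 2, 3, 4, 5, 6].all fun i => Nat.ble (avoid (a :: ch) i) 3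

/-- Some listed diagram fits. -/
def fits (ch : List ℕ) : Bool :=
  configs.any fun w =>
    ((w.take 7).all fun p => singleL.contains p.1 || ch.contains p.1) &&
      quadL.contains (w.getD 7 (0, 0)).1 && !ch.contains (w.getD 7 (0, 0)).1

/-- The search. -/
def dfs : List ℕ → List ℕ → Bool
  | [], ch => !([0, 1, 2, 3, 4, 5, 6].all fun i => avoid ch i == 3) || fits ch
  | a :: r, ch => dfs r ch && (!canAdd a ch || dfs r (a :: ch))

theorem dfs_ok : dfs quadL [] = true := by decide +kernel

theorem not_tooMany (h : Good X) {F : List ℕ} (hF : F.Nodup) (hFq : ∀ a ∈ F, a ∈ quadL)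
    (hFX : ∀ a, a ∈ F ↔ a ∈ quadL ∧ Sig X a) {L : List ℕ} (hL : ∀ a ∈ L, Sig X a) :
    tooMany L = false := by
  rw [tooMany, List.any_eq_false]
  intro i hi
  simp only [Nat.blt_eq, not_lt]
  have hi7 : i < 7 := by simp at hi; omega
  refine le_of_le_of_eq ?_ (card_avoid h hF hFq hFX (i := ⟨i, hi7⟩))
  refine List.Subperm.countP_le _ ((List.nodup_dedup _).subperm fun a ha => ?_)
  rw [List.mem_dedup, List.mem_filter, List.contains_iff_mem] at ha
  exact (hFX a).2 ⟨ha.2, hL a ha.1⟩

/-- The main combinatorial fact: some listed diagram has seven vectors inside and one outside. -/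
theorem exists_config (h : Good X) : ∃ w ∈ configs, (∀ p ∈ w.take 7, vecOf p.1 p.2 ∈ X) ∧
    vecOf (w.getD 7 (0, 0)).1 (w.getD 7 (0, 0)).2 ∉ X := by
  classical
  set F := quadL.filter fun a => decide (Sig X a) with hFdef
  have hF : F.Nodup := (by decide +kernel : quadL.Nodup).filter _
  have hFq : ∀ a ∈ F, a ∈ quadL := fun a ha => List.mem_of_mem_filter ha
  have hFX : ∀ a, a ∈ F ↔ a ∈ quadL ∧ Sig X a := fun a => by simp [hFdef]
  have h3 : ∀ A ∈ quadL, ∀ B ∈ quadL, Sig X A → Sig X B → size (A &&& B) ≠ 3 := by
    intro A hA B hB sA sB e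
    have := List.all_eq_true.1 (List.all_eq_true.1 overlap_three A hA) B hB
    rw [not_tooMany h hF hFq hFX (L := A :: B :: derived A B) (fun C hC => by
      simp only [List.mem_cons] at hC
      rcases hC with rfl | rfl | hC
      exacts [sA, sB, sig_derived h sA sB hC]), e] at this
    simp at this
  have hfull : ∀ A ∈ quadL, Sig X A → ¬ Sig X 127 := by
    intro A hA sA s7
    have := List.all_eq_true.1 overlap_full A hA
    rw [List.any_eq_true] at this
    obtain ⟨B, hB, this⟩ := this
    rw [List.any_eq_true] at this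
    obtain ⟨B', hB', this⟩ := this
    simp only [Bool.and_eq_true, List.contains_iff_mem, beq_iff_eq] at this
    exact h3 B this.1.1 B' this.1.2 (sig_derived h sA s7 hB) (sig_derived h sA s7 hB') this.2
  have h2 : ∀ A ∈ F, ∀ B ∈ F, A ≠ B → size (A &&& B) = 2 := by
    intro A hA B hB hne
    obtain ⟨qA, sA⟩ := (hFX A).1 hA
    obtain ⟨qB, sB⟩ := (hFX B).1 hB
    have := List.all_eq_true.1 (List.all_eq_true.1 overlap_other A qA) B qB
    simp only [Bool.or_eq_true, beq_iff_eq, hne, false_or, List.contains_iff_mem, List.mem_cons,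
      List.not_mem_nil, or_false] at this
    rcases this with e | e | e
    · have := List.all_eq_true.1 (List.all_eq_true.1 overlap_one A qA) B qB
      simp only [e, Bool.or_eq_true, bne_self_eq_false, Bool.false_eq_true, false_or,
        List.contains_iff_mem] at this
      exact absurd (sig_derived h sA sB this) (hfull A qA sA)
    · exact e
    · exact absurd e (h3 A qA B qB sA sB)
  have key : ∀ rem ch : List ℕ, ch.Nodup → rem.Nodup → (∀ a ∈ ch, a ∈ F ∧ a ∉ rem) →
      (∀ a ∈ F, a ∈ ch ∨ a ∈ rem) → dfs rem ch = true → fits F = true := by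
    intro rem
    induction rem with
    | nil =>
      intro ch hch _ hsub hsup hd
      have hperm : List.Perm ch F := (List.perm_ext_iff_of_nodup hch hF).2 fun a =>
        ⟨fun ha => (hsub a ha).1, fun ha => (hsup a ha).resolve_right (List.not_mem_nil)⟩
      have hc : ([0, 1, 2, 3, 4, 5, 6].all fun i => avoid ch i == 3) = true := by
        rw [List.all_eq_true]
        intro i hi
        have hi7 : i < 7 := by simp at hi; omega
        rw [beq_iff_eq, avoid, hperm.countP_eq]
        exact card_avoid h hF hFq hFX (i := ⟨i, hi7⟩)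
      rw [dfs, hc] at hd
      simp only [Bool.not_true, Bool.false_or] at hd
      simp only [fits, List.any_eq_true, Bool.and_eq_true, List.all_eq_true, Bool.or_eq_true,
        Bool.not_eq_true', ← Bool.not_eq_true, List.contains_iff_mem, hperm.mem_iff] at hd ⊢
      exact hd
    | cons a r ih =>
      intro ch hch hrem hsub hsup hd
      rw [dfs, Bool.and_eq_true] at hd
      rw [List.nodup_cons] at hrem
      by_cases ha : a ∈ F
      · have hcan : canAdd a ch = true := by
          simp only [canAdd, Bool.and_eq_true, List.all_eq_true, beq_iff_eq, Nat.ble_eq]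
          refine ⟨fun b hb => h2 a ha b (hsub b hb).1 fun e => (hsub b hb).2 (by simp [e]),
            fun i hi => ?_⟩
          have hi7 : i < 7 := by simp at hi; omega
          refine le_of_le_of_eq (List.Subperm.countP_le _ (List.Nodup.subperm ?_ ?_))
            (card_avoid h hF hFq hFX (i := ⟨i, hi7⟩))
          · exact List.nodup_cons.2 ⟨fun e => (hsub a e).2 List.mem_cons_self, hch⟩
          · intro b hb
            rcases List.mem_cons.1 hb with rfl | hb
            exacts [ha, (hsub b hb).1]
        have h' := hd.2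
        rw [hcan] at h'
        simp only [Bool.not_true, Bool.false_or] at h'
        refine ih (a :: ch) (List.nodup_cons.2 ⟨fun e => (hsub a e).2 List.mem_cons_self, hch⟩)
          hrem.2 (fun b hb => ?_) (fun b hb => ?_) h'
        · rcases List.mem_cons.1 hb with rfl | hb
          · exact ⟨ha, hrem.1⟩
          · exact ⟨(hsub b hb).1, fun e => (hsub b hb).2 (List.mem_cons_of_mem _ e)⟩
        · rcases hsup b hb with e | e
          · exact Or.inl (List.mem_cons_of_mem _ e)
          · rcases List.mem_cons.1 e with rfl | e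
            exacts [Or.inl List.mem_cons_self, Or.inr e]
      · refine ih ch hch hrem.2 (fun b hb => ⟨(hsub b hb).1, fun e => (hsub b hb).2
          (List.mem_cons_of_mem _ e)⟩) (fun b hb => ?_) hd.1
        rcases hsup b hb with e | e
        · exact Or.inl e
        · exact Or.inr ((List.mem_cons.1 e).resolve_left fun e => ha (e ▸ hb))
  have := key quadL [] List.nodup_nil (by decide +kernel) (by simp)
    (fun a ha => Or.inr (hFq a ha)) dfs_ok
  simp only [fits, List.any_eq_true, Bool.and_eq_true, List.all_eq_true, Bool.or_eq_true,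
    Bool.not_eq_true', ← Bool.not_eq_true, List.contains_iff_mem] at this
  obtain ⟨w, hw, ⟨hin, hfq⟩, hout⟩ := this
  refine ⟨w, hw, fun p hp => ?_, fun hx => hout ?_⟩
  · rcases hin p hp with e | e
    · obtain ⟨j, hj⟩ := single_pow _ e
      exact (hj.trans (supp_single j).symm) ▸ sig_of_mem h (h.single j) p.2
    · exact ((hFX _).1 e).2 p.2
  · have hs : supp (vecOf (w.getD 7 (0, 0)).1 (w.getD 7 (0, 0)).2) = (w.getD 7 (0, 0)).1 :=
      Nat.eq_of_testBit_eq fun j => by
        by_cases hj : j < 7
        · rw [show j = ((⟨j, hj⟩ : Fin 7) : ℕ) from rfl, supp_bit, vecOf]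
          cases (w.getD 7 (0, 0)).1.testBit (⟨j, hj⟩ : Fin 7) <;>
            cases (w.getD 7 (0, 0)).2.testBit (⟨j, hj⟩ : Fin 7) <;> decide
        · have hp : 128 ≤ 2 ^ j := Nat.pow_le_pow_right two_pos (show 7 ≤ j by omega)
          rw [Nat.testBit_lt_two_pow ((supp_lt _).trans_le hp),
            Nat.testBit_lt_two_pow ((quad_lt _ hfq).1.trans_le hp)]
    exact (hFX _).2 ⟨hfq, hs ▸ sig_of_mem h hx⟩

end CfsgLib.Sporadic.FiTransfer23.Supports
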